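import Cfsg.Agent.Lib.MonsterType.ThreeFree.Coords
import Cfsg.Agent.Lib.MonsterType.Conjugates

/-!
# The order of the centraliser is at most six times that of the alternating group of degree nine
-/

set_option autoImplicit false
set_option maxRecDepth 100000

open scoped Pointwise

namespace CfsgLib.MonsterType.ThreeFree

open Cfsg CfsgLib.Golay CfsgLib.Leech CfsgLib.Leech.CoTwo CfsgLib.M24Cert

theorem finite_co0 : Finite Co0 := Nat.finite_of_card_ne_zero (by rw [card_co0]; norm_num)

theorem mem_centralizer_piAut {g : Co0} :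
    g ∈ Subgroup.centralizer ({piAut} : Set Co0) ↔ g * piAut = piAut * g :=
  Subgroup.mem_centralizer_singleton_iff

theorem piAut_mem_crossStab : piAut ∈ crossStab := (permLift sigB).2

/-- The sign changes centralising the element. -/
theorem card_ker_inf_le : Nat.card ↥(permPart.ker ⊓
    (Subgroup.centralizer ({piAut} : Set Co0)).subgroupOf crossStab) ≤ 16 := by
  classical
  set K := permPart.ker ⊓ (Subgroup.centralizer ({piAut} : Set Co0)).subgroupOf crossStab
  have hval : validL 24 elE.L = true := elE_valid
  have hex : ∀ g : K, ∃ n : ℕ, n ∈ golayList ∧ imgF elE.L n = n ∧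
      ∃ hc : CodeSet (toSet n), ((g : crossStab) : Co0) = monoAut 1 (one_mem _) (toSet n) hc := by
    intro g
    obtain ⟨σ, hσ, c, hc, h⟩ := exists_monoAut_of_mem (g : crossStab).2
    have h1 : permPart (g : crossStab) = 1 := g.2.1
    have h2 : ((permPart (g : crossStab) : ↥M24) : Equiv.Perm GolayPt) = σ := permOfMono_eq h
    rw [h1] at h2
    subst h2
    obtain ⟨n, hn, rfl⟩ := mem_supports.1 hc
    refine ⟨n, hn, ?_, hc, h⟩
    have hcomm := mem_centralizer_piAut.1 (Subgroup.mem_subgroupOf.1 g.2.2)
    have key : ∀ p : GolayPt, pL elE.L p ∈ toSet n ↔ p ∈ toSet n := by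
      intro p
      have h3 : (((g : crossStab) : Co0) * piAut) • axisVec p 8 dvd_rfl =
          (piAut * ((g : crossStab) : Co0)) • axisVec p 8 dvd_rfl := by rw [hcomm]
      rw [mul_smul, mul_smul] at h3
      have h4 := congrArg (fun v : leechLattice => (v : GolayPt → ℤ) (pL elE.L p)) h3
      have e0 : pL invE (pL elE.L p) = p := by
        rw [← sigB_symm]; exact Equiv.symm_apply_apply _ p
      have e2 : ∀ q, ((1 : ↥M24) : Equiv.Perm GolayPt).symm q = q := fun q => rfl
      simp only [coe_piAut_smul, h, coe_monoAut_smul, signedPerm, e2, e0, coe_axisVec, Pi.single_eq_same] at h4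
      by_cases ha : pL elE.L p ∈ toSet n <;> by_cases hb : p ∈ toSet n <;> simp [ha, hb] at h4 ⊢
    have hlt : n < 2 ^ 24 := golayList_lt n hn
    have hset : toSet (imgF elE.L n) = toSet n := by
      rw [← smul_toSet_imgF hval]
      ext q
      obtain ⟨p, rfl⟩ := (pL elE.L).surjective q
      rw [← Equiv.Perm.smul_def, Finset.smul_mem_smul_finset_iff, Equiv.Perm.smul_def]
      exact (key p).symm
    refine Nat.eq_of_testBit_eq fun i => ?_
    by_cases hi : i < 24
    · have h5 := congrArg (fun s : Finset GolayPt => decide (pt i ∈ s)) hset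
      simpa [pt_mem_toSet hi] using h5
    · rw [Nat.testBit_lt_two_pow (lt_of_lt_of_le (imgF_lt hval n) (Nat.pow_le_pow_right (by norm_num) (by omega))),
        Nat.testBit_lt_two_pow (lt_of_lt_of_le hlt (Nat.pow_le_pow_right (by norm_num) (by omega)))]
  choose num hnum hfix hc hg using hex
  set l := golayList.filter fun n => Nat.beq (imgF elE.L n) n with hl
  have hmem : ∀ g : K, num g ∈ l.toFinset := fun g => by
    rw [List.mem_toFinset, hl, List.mem_filter]
    exact ⟨hnum g, by rw [hfix g]; exact Nat.beq_refl _⟩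
  refine (Nat.card_le_card_of_injective (fun g : K => (⟨num g, hmem g⟩ : l.toFinset)) fun g g' e => ?_).trans ?_
  · have e' : num g = num g' := congrArg Subtype.val e
    refine Subtype.ext (Subtype.ext ?_)
    rw [hg g, hg g']
    congr 1
    rw [e']
  · rw [Nat.card_eq_fintype_card, Fintype.card_coe]
    refine (List.toFinset_card_le l).trans ?_
    rw [hl, ← List.countP_eq_length_filter, countP_golayList, imgE_count]

theorem card_cross_centralizer_le :
    Nat.card ↥((Subgroup.centralizer ({piAut} : Set Co0)).subgroupOf crossStab) ≤ 8064 := by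
  have := finite_co0
  set K := (Subgroup.centralizer ({piAut} : Set Co0)).subgroupOf crossStab
  rw [card_eq_map_mul_ker_inf permPart K]
  have h1 : K.map permPart ≤ Subgroup.centralizer ({sigB} : Set ↥M24) := by
    rintro _ ⟨m, hm, rfl⟩
    rw [Subgroup.mem_centralizer_singleton_iff, ← permPart_permLift sigB, ← map_mul, ← map_mul]
    congr 1
    exact Subtype.ext (mem_centralizer_piAut.1 (Subgroup.mem_subgroupOf.1 hm))
  have : Finite ↥M24 := Nat.finite_of_card_ne_zero (by rw [card_M24]; norm_num)
  have h2 := (Subgroup.card_le_of_le h1).trans card_centralizer_sigB_le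
  calc _ ≤ 504 * 16 := Nat.mul_le_mul h2 card_ker_inf_le
    _ = 8064 := by norm_num

theorem thirtytwo_dvd_of_congr_base {v w : leechLattice} (h : v - w ∈ twoMul leechLattice)
    (hv : sqNorm (v : GolayPt → ℤ) = 64) : (32 : ℤ) ∣ sqNorm (w : GolayPt → ℤ) := by
  have h1 := norm_sixteenth_congr h
  rw [hv, ZMod.intCast_eq_intCast_iff'] at h1
  have h2 := sqNorm_dvd_sixteen w.2
  push_cast at h1
  omega

/-- The class of the image of the base vector. -/
theorem exists_baseClass {g : Co0} (hg : g ∈ Subgroup.centralizer ({piAut} : Set Co0)) :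
    ∃ x ∈ spreadTab.flatten, g • baseVec - vecN x ∈ twoMul leechLattice := by
  have hcomm := mem_centralizer_piAut.1 hg
  have hpi := mem_crossStab_iff_congr.1 piAut_mem_crossStab
  have hfix : piAut • g • baseVec - g • baseVec ∈ twoMul leechLattice := by
    rw [← mul_smul, ← hcomm, mul_smul, ← smul_sub']
    exact smul_mem_twoMul g hpi
  obtain ⟨u, hu, huv⟩ := exists_fixed_rep (by decide : Odd 3) piAut_pow hfix
  obtain ⟨x, hx, hxu⟩ := fixed_span hu
  have hgx : g • baseVec - vecN x ∈ twoMul leechLattice := congr_trans (congr_symm huv) hxu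
  refine ⟨x, ?_, hgx⟩
  have hn : sqNorm ((g • baseVec : leechLattice) : GolayPt → ℤ) = 64 := by
    rw [sqNorm_smul_co, baseVec, coe_axisVec, sqNorm_single]; norm_num
  have h32 := thirtytwo_dvd_of_congr_base hgx hn
  rw [coe_vecN, ← dotInt_self, dotInt_toVec] at h32
  have h := List.all_eq_true.1 singular_ok x (List.mem_range.2 hx)
  simp only [Bool.or_eq_true, beq_iff_eq, Bool.not_eq_true', beq_eq_false_iff_ne, List.contains_iff_mem] at h
  rcases h with (h | h) | h
  · exfalso
    subst h
    rw [vecN_zero, sub_zero] at hgx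
    have h0 : baseVec ∈ twoMul leechLattice := by
      have := smul_mem_twoMul g⁻¹ hgx
      rwa [inv_smul_smul] at this
    obtain ⟨w, hw⟩ := mem_twoMul_iff_add.1 h0
    have e := congrArg (fun t : leechLattice => sqNorm (t : GolayPt → ℤ)) hw
    simp only [AddSubgroup.coe_add, sqNorm_add, dotInt_self] at e
    rw [baseVec, coe_axisVec, sqNorm_single] at e
    have hw0 : (w : GolayPt → ℤ) ≠ 0 := fun h' => by
      rw [h'] at e
      simp [sqNorm, dotInt] at e
    have h32' := min_norm w.2 hw0
    omega
  · exact absurd (Int.emod_eq_zero_of_dvd h32) h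
  · exact h

/-- The order of the centraliser is at most six times that of the alternating group of degree nine. -/
theorem card_centralizer_piAut_le :
    Nat.card ↥(Subgroup.centralizer ({piAut} : Set Co0)) ≤ 1088640 := by
  classical
  have := finite_co0
  set C := Subgroup.centralizer ({piAut} : Set Co0)
  choose cls hcls hcong using fun g : C => exists_baseClass g.2
  let r : ℕ → C := fun x => Classical.epsilon fun g => cls g = x
  have hr : ∀ g : C, cls (r (cls g)) = cls g := fun g =>
    Classical.epsilon_spec (p := fun h : C => cls h = cls g) ⟨g, rfl⟩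
  have hst : ∀ g : C, (((r (cls g))⁻¹ * g : C) : Co0) ∈ crossStab := fun g => by
    rw [mem_crossStab_iff_congr, Subgroup.coe_mul, Subgroup.coe_inv, mul_smul]
    have h1 := congr_trans (hcong g) (congr_symm (hr g ▸ hcong (r (cls g))))
    have h2 := smul_mem_twoMul ((r (cls g) : Co0))⁻¹ h1
    rwa [smul_sub', inv_smul_smul] at h2
  let f : C → spreadTab.flatten.toFinset × ↥(C.subgroupOf crossStab) := fun g =>
    (⟨cls g, List.mem_toFinset.2 (hcls g)⟩, ⟨⟨_, hst g⟩, ((r (cls g))⁻¹ * g : C).2⟩)
  refine (Nat.card_le_card_of_injective f fun g h e => ?_).trans ?_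
  · obtain ⟨e1, e2⟩ := Prod.mk.inj e
    have e1' : cls g = cls h := congrArg Subtype.val e1
    have e2' := congrArg (fun t : ↥(C.subgroupOf crossStab) => ((t : crossStab) : Co0)) e2
    simp only [Subgroup.coe_mul, Subgroup.coe_inv, e1'] at e2'
    exact Subtype.ext (mul_left_cancel e2')
  · rw [Nat.card_prod, Nat.card_eq_fintype_card, Fintype.card_coe,
      show spreadTab.flatten.toFinset.card = 135 from
        (List.toFinset_card_of_nodup spread_ok.2.1).trans spread_ok.2.2.1]
    exact (Nat.mul_le_mul_left _ card_cross_centralizer_le).trans (by norm_num)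

end CfsgLib.MonsterType.ThreeFree
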