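import Cfsg.Agent.Lib.MonsterType.ThreeFree.Data
import Cfsg.Agent.Lib.Leech.CoTwo.LatMat
import Cfsg.Agent.Lib.Leech.CoTwo.Checks
import Cfsg.Agent.Lib.M24Cert.ClassFacts

/-!
# Kernel checks for the fixed-point-free element of order three
-/

set_option autoImplicit false
set_option maxRecDepth 100000

namespace CfsgLib.MonsterType.ThreeFree

open Cfsg CfsgLib.Golay CfsgLib.Leech.CoTwo CfsgLib.M24Cert

/-- The inverse of the permutation, as a list of images. -/
def invE : List ℕ := compL elE.L elE.L

/-- The permutation applied to coordinates. -/
def piL (l : List ℤ) : List ℤ := (List.range 24).map fun i => l.getD (invE.getD i 0) 0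

/-- The sum of a list with its two translates. -/
def traceL (l : List ℤ) : List ℤ :=
  (List.range 24).map fun i => l.getD i 0 + (piL l).getD i 0 + (piL (piL l)).getD i 0

/-- The coordinates of a class. -/
def vecL (x : ℕ) : List ℤ :=
  (List.range 24).map fun j =>
    ((List.range 8).map fun i => if x.testBit i then (fixBasis.getD i []).getD j 0 else 0).sum

/-- Half of a difference. -/
def halfDiff (a b : List ℤ) : List ℤ := (List.range 24).map fun i => (a.getD i 0 - b.getD i 0) / 2

/-- Congruence modulo twice the lattice. -/
def congrB (a b : List ℤ) : Bool :=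
  ((List.range 24).all fun i => (a.getD i 0 - b.getD i 0) % 2 == 0) && leechTest (halfDiff a b)

/-- The image under a word of matrices. -/
def imgW (W : List (List (List (ℕ × ℤ)))) (l : List ℤ) : List ℤ :=
  W.foldr (fun M acc => imgList M acc) l

/-- The image of a class under a linear map given on the basis. -/
def linX (img : List ℕ) (x : ℕ) : ℕ :=
  (List.range 8).foldr (fun i acc => if x.testBit i then img.getD i 0 ^^^ acc else acc) 0

/-- One of the nine subspaces. -/
def sp (k : ℕ) : List ℕ := spreadTab.getD k []

/-- The matrices are automorphisms. -/
def wordCheck (W : List (List (List (ℕ × ℤ)))) : Bool :=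
  W.all fun M => matCheck M (trMat M) && matCheck (trMat M) M

/-- The word commutes with the permutation. -/
def commWord (W : List (List (List (ℕ × ℤ)))) : Bool :=
  genList.all fun l => imgW W (piL l) == piL (imgW W l)

/-- The action of a word on the classes of the basis and on the subspaces. -/
def actWord (W : List (List (List (ℕ × ℤ)))) (img p : List ℕ) : Bool :=
  ((List.range 8).all fun i => congrB (imgW W (fixBasis.getD i [])) (vecL (img.getD i 0))) &&
    (List.range 9).all fun k => decide (p.getD k 0 < 9) &&
      (sp k).all fun x => (sp (p.getD k 0)).contains (linX img x)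

theorem one_ok : wordCheck oneMats = true ∧ commWord oneMats = true ∧
    actWord oneMats oneImg onePerm = true := by
  refine ⟨?_, ?_, ?_⟩ <;> decide +kernel

theorem two_ok : wordCheck twoMats = true ∧ commWord twoMats = true ∧
    actWord twoMats twoImg twoPerm = true := by
  refine ⟨?_, ?_, ?_⟩ <;> decide +kernel

theorem basis_ok : (List.range 8).all (fun i => decide ((fixBasis.getD i []).length = 24) &&
    leechTest (fixBasis.getD i []) && piL (fixBasis.getD i []) == fixBasis.getD i []) = true := by
  decide +kernel

theorem trace_ok : (List.range genList.length).all (fun n => decide (traceCls.getD n 0 < 256) &&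
    congrB (traceL (genList.getD n [])) (vecL (traceCls.getD n 0))) = true := by
  decide +kernel

theorem nondeg_ok : (List.range 256).all (fun x => x == 0 ||
    (List.range 8).any fun i => !(dotL (vecL x) (fixBasis.getD i []) % 16 == 0)) = true := by
  decide +kernel

theorem singular_ok : (List.range 256).all (fun x => x == 0 || !(dotL (vecL x) (vecL x) % 32 == 0) ||
    spreadTab.flatten.contains x) = true := by
  decide +kernel

theorem spread_ok : spreadTab.length = 9 ∧ spreadTab.flatten.Nodup ∧
    spreadTab.flatten.length = 135 ∧ (∀ x ∈ spreadTab.flatten, x < 256) ∧ (∀ k < 9, sp k ≠ []) := by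
  decide +kernel

theorem invE_valid : validL 24 elE.L = true ∧ validL 24 invE = true ∧
    compL elE.L invE = List.range 24 := by
  decide +kernel

theorem imgE_count : countSpan (fun n => Nat.beq (imgF elE.L n) n) golayBasis 0 = 16 := by
  decide +kernel

end CfsgLib.MonsterType.ThreeFree
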