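import Mathlib.Data.Nat.Notation

/-!
Generated data: the elements centralising a fixed-point-free element of order three and fixing a point.
-/

set_option autoImplicit false

namespace CfsgLib.MonsterType.ThreeFree

/-- The twenty-one elements. -/
def centList : List (List ℕ) :=
  [[0, 1, 2, 3, 4, 5, 6, 7, 8, 9, 10, 11, 12, 13, 14, 15, 16, 17, 18, 19, 20, 21, 22, 23],
   [0, 1, 2, 3, 4, 9, 13, 10, 16, 18, 12, 20, 7, 17, 22, 8, 15, 6, 5, 19, 23, 14, 21, 11],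
   [0, 1, 2, 3, 4, 18, 17, 12, 15, 5, 7, 23, 10, 6, 21, 16, 8, 13, 9, 19, 11, 22, 14, 20],
   [0, 1, 2, 5, 16, 9, 17, 20, 6, 14, 11, 23, 7, 8, 18, 13, 15, 4, 21, 12, 10, 22, 3, 19],
   [0, 1, 2, 5, 16, 14, 8, 11, 15, 21, 7, 10, 20, 4, 3, 6, 13, 17, 9, 12, 19, 18, 22, 23],
   [0, 1, 2, 5, 16, 21, 4, 7, 13, 9, 20, 19, 11, 17, 22, 15, 6, 8, 14, 12, 23, 3, 18, 10],
   [0, 1, 2, 9, 15, 14, 4, 10, 17, 18, 23, 19, 20, 6, 21, 8, 13, 16, 22, 7, 11, 3, 5, 12],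
   [0, 1, 2, 9, 15, 18, 6, 23, 13, 22, 20, 11, 10, 16, 5, 17, 8, 4, 14, 7, 12, 21, 3, 19],
   [0, 1, 2, 9, 15, 22, 16, 20, 8, 14, 10, 12, 23, 4, 3, 13, 17, 6, 18, 7, 19, 5, 21, 11],
   [0, 1, 2, 14, 13, 3, 15, 10, 6, 18, 11, 7, 19, 16, 5, 8, 4, 17, 21, 20, 12, 9, 22, 23],
   [0, 1, 2, 14, 13, 18, 16, 11, 4, 21, 19, 12, 10, 17, 22, 6, 8, 15, 3, 20, 23, 5, 9, 7],
   [0, 1, 2, 14, 13, 21, 17, 19, 8, 3, 10, 23, 11, 15, 9, 4, 6, 16, 18, 20, 7, 22, 5, 12],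
   [0, 1, 2, 18, 8, 5, 13, 11, 17, 21, 23, 20, 12, 15, 9, 6, 16, 4, 22, 10, 7, 14, 3, 19],
   [0, 1, 2, 18, 8, 21, 15, 23, 16, 22, 12, 7, 11, 4, 3, 17, 6, 13, 5, 10, 19, 9, 14, 20],
   [0, 1, 2, 18, 8, 22, 4, 12, 6, 5, 11, 19, 23, 13, 14, 16, 17, 15, 21, 10, 20, 3, 9, 7],
   [0, 1, 2, 21, 6, 3, 16, 7, 17, 9, 23, 12, 19, 8, 18, 15, 4, 13, 22, 11, 10, 5, 14, 20],
   [0, 1, 2, 21, 6, 9, 8, 23, 4, 22, 19, 10, 7, 13, 14, 17, 15, 16, 3, 11, 20, 18, 5, 12],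
   [0, 1, 2, 21, 6, 22, 13, 19, 15, 3, 7, 20, 23, 16, 5, 4, 17, 8, 9, 11, 12, 14, 18, 10],
   [0, 1, 2, 22, 17, 3, 8, 12, 13, 5, 20, 10, 19, 15, 9, 16, 4, 6, 14, 23, 7, 18, 21, 11],
   [0, 1, 2, 22, 17, 5, 15, 20, 4, 14, 19, 7, 12, 6, 21, 13, 16, 8, 3, 23, 11, 9, 18, 10],
   [0, 1, 2, 22, 17, 14, 6, 19, 16, 3, 12, 11, 20, 8, 18, 4, 13, 15, 5, 23, 10, 21, 9, 7]]

end CfsgLib.MonsterType.ThreeFree
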