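import Cfsg.Agent.Lib.M24Cert.Cent
import Cfsg.Agent.Lib.M24Cert.Pairs
import Cfsg.Agent.Lib.MonsterType.ThreeFree.PermsData

/-!
# The fixed-point-free element of order three in the Mathieu group
-/

set_option autoImplicit false
set_option maxRecDepth 100000

namespace CfsgLib.MonsterType.ThreeFree

open Cfsg CfsgLib.Golay CfsgLib.M24Cert

/-- The fixed-point-free element of order three. -/
noncomputable def sigB : ↥M24 := ⟨pL elE.L, inv_facts.2.2.2.2.2.2.2⟩

theorem orderOf_sigB : orderOf sigB = 3 := by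
  rw [← Subgroup.orderOf_coe]
  exact inv_facts.2.2.2.2.2.1

theorem elE_valid : validL 24 elE.L = true := by decide +kernel

theorem elE_steps : getR elE.L 0 = 1 ∧ getR elE.L 1 = 2 ∧ getR elE.L 2 = 0 ∧ getR elE.L 3 = 4 := by
  decide +kernel

theorem three_fix_check : cosetAll (fun h => !commB h elE.L ||
    anyB (fun L => allLt (fun i => Nat.beq (h i) (getR L i)) 24) centList) 3 (List.range 24) = true := by
  decide +kernel

theorem centList_facts : centList.length = 21 ∧ allB (validL 24) centList = true := by decide +kernel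

/-- A commuting element sends the successor of a point to the successor of the image. -/
theorem sigB_step {g : Equiv.Perm GolayPt} (hg : g * pL elE.L = pL elE.L * g) {a b : ℕ} (ha : a < 24)
    (hb : b < 24) (h : g (pt a) = pt b) : g (pt (getR elE.L a)) = pt (getR elE.L b) := by
  have e := congrArg (fun x : Equiv.Perm GolayPt => x (pt a)) hg
  simp only [Equiv.Perm.mul_apply] at e
  rw [h, pL_pt elE_valid ha, pL_pt elE_valid hb] at e
  rw [getR_eq, getR_eq]
  exact e

/-- A commuting element fixing the first point is listed. -/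
theorem mem_centList_of_fix {g : Equiv.Perm GolayPt} (hg : g ∈ M24)
    (hc : g * pL elE.L = pL elE.L * g) (h0 : g (pt 0) = pt 0) : ∃ L ∈ centList, g = pL L := by
  obtain ⟨e0, e1, -, -⟩ := elE_steps
  have h1 : g (pt 1) = pt 1 := by simpa [e0] using sigB_step hc (show 0 < 24 by omega) (show 0 < 24 by omega) h0
  have h2 : g (pt 2) = pt 2 := by simpa [e1] using sigB_step hc (show 1 < 24 by omega) (show 1 < 24 by omega) h1
  obtain ⟨h, hP, hd⟩ := coset_spec (k := 3) (fixed := [0, 1, 2]) (by decide +kernel) (by decide +kernel)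
    fix5_few.2 three_fix_check hg fun i hi => by
      simp only [List.mem_cons, List.not_mem_nil, or_false] at hi
      rcases hi with rfl | rfl | rfl <;> refine ⟨by omega, ?_⟩
      exacts [h0, h1, h2]
  rw [(commB_iff hd elE_valid).2 hc] at hP
  simp only [Bool.not_true, Bool.false_or] at hP
  obtain ⟨L, hL, hLe⟩ := anyB_iff.1 hP
  refine ⟨L, hL, Equiv.ext fun p => ?_⟩
  obtain ⟨i, hi, rfl⟩ := exists_pt p
  rw [(hd i hi).2, pL_pt (allB_iff.1 centList_facts.2 L hL) hi, Nat.eq_of_beq_eq_true (allLt_spec hLe i hi), getR_eq]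

/-- The centraliser has order at most 504. -/
theorem card_centralizer_sigB_le : Nat.card ↥(Subgroup.centralizer ({sigB} : Set ↥M24)) ≤ 504 := by
  classical
  haveI : Finite ↥M24 := Nat.finite_of_card_ne_zero (by rw [card_M24]; norm_num)
  set K := Subgroup.centralizer ({sigB} : Set ↥M24)
  have hcomm : ∀ g ∈ K, ((g : ↥M24) : Equiv.Perm GolayPt) * pL elE.L =
      pL elE.L * ((g : ↥M24) : Equiv.Perm GolayPt) := fun g hg =>
    congrArg Subtype.val (Subgroup.mem_centralizer_singleton_iff.1 hg)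
  let r : GolayPt → ↥M24 := fun q => Classical.epsilon fun g => g ∈ K ∧ (g : Equiv.Perm GolayPt) (pt 0) = q
  have hr : ∀ g ∈ K, r ((g : Equiv.Perm GolayPt) (pt 0)) ∈ K ∧
      ((r ((g : Equiv.Perm GolayPt) (pt 0)) : ↥M24) : Equiv.Perm GolayPt) (pt 0) =
        (g : Equiv.Perm GolayPt) (pt 0) := fun g hg =>
    Classical.epsilon_spec (p := fun x : ↥M24 => x ∈ K ∧ (x : Equiv.Perm GolayPt) (pt 0) =
      (g : Equiv.Perm GolayPt) (pt 0)) ⟨g, hg, rfl⟩
  have hex : ∀ g : K, ∃ i : Fin 21, (((r (((g : ↥M24) : Equiv.Perm GolayPt) (pt 0)))⁻¹ * (g : ↥M24) : ↥M24) :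
      Equiv.Perm GolayPt) = pL (centList.getD i.val []) := fun g => by
    obtain ⟨h1, h2⟩ := hr _ g.2
    have hmem := K.mul_mem (K.inv_mem h1) g.2
    obtain ⟨L, hL, e⟩ := mem_centList_of_fix (((r (((g : ↥M24) : Equiv.Perm GolayPt) (pt 0)))⁻¹ *
      (g : ↥M24) : ↥M24)).2 (hcomm _ hmem) (by
        simp only [Subgroup.coe_mul, InvMemClass.coe_inv, Equiv.Perm.mul_apply, Equiv.Perm.inv_def]
        rw [Equiv.symm_apply_eq, h2])
    obtain ⟨i, hi, rfl⟩ := List.getElem_of_mem hL
    exact ⟨⟨i, centList_facts.1 ▸ hi⟩, by rw [e, List.getD_eq_getElem _ _ hi]⟩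
  choose ix hix using hex
  refine (Nat.card_le_card_of_injective (fun g : K => (((g : ↥M24) : Equiv.Perm GolayPt) (pt 0), ix g))
    fun g h e => ?_).trans ?_
  · obtain ⟨e1, e2⟩ := Prod.mk.inj e
    have h1 := hix g
    rw [e1, e2, ← hix h] at h1
    exact Subtype.ext (mul_left_cancel (Subtype.ext h1))
  · rw [Nat.card_prod, Nat.card_eq_fintype_card, Nat.card_eq_fintype_card, Fintype.card_fin,
      show Fintype.card GolayPt = 24 by decide]

/-- The element is conjugate to its square. -/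
theorem exists_invert_sigB : ∃ t : ↥M24, t * sigB * t⁻¹ = sigB ^ 2 := by
  have hsq : orderOf ((sigB ^ 2 : ↥M24) : Equiv.Perm GolayPt) = 3 := by
    rw [Subgroup.orderOf_coe, orderOf_pow, orderOf_sigB]
    rfl
  obtain ⟨u, hu, h⟩ := three_cases (sigB ^ 2).2 hsq
  rcases h with ⟨-, h6⟩ | ⟨e, -⟩
  · exfalso
    have h0 : ∀ p, pL elE.L (pL elE.L p) ≠ p := by
      intro p
      obtain ⟨i, hi, rfl⟩ := exists_pt p
      have hl : getR elE.L i < 24 := by rw [getR_eq]; exact validL_getD_lt elE_valid hi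
      rw [pL_pt elE_valid hi, ← getR_eq, pL_pt elE_valid hl, ← getR_eq]
      intro e
      have : ∀ j < 24, getR elE.L (getR elE.L j) ≠ j := by decide +kernel
      exact this i hi (pt_inj (by rw [getR_eq]; exact validL_getD_lt elE_valid hl) hi e)
    have : (Finset.univ.filter fun p => ((sigB ^ 2 : ↥M24) : Equiv.Perm GolayPt) p = p).card = 0 := by
      rw [fixed_card_zero_iff]
      intro p
      rw [SubmonoidClass.coe_pow, pow_two]
      exact h0 p
    omega
  · exact ⟨⟨u, hu⟩, Subtype.ext e.symm⟩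

/-- The element is the class of those without fixed points. -/
theorem conj_sigB_of_orderOf {g : ↥M24} (ho : orderOf g = 3) :
    (∃ u : ↥M24, g = u * sigB * u⁻¹) ∨ ∃ u ∈ M24, (g : Equiv.Perm GolayPt) = u * pL elD.L * u⁻¹ := by
  obtain ⟨u, hu, h⟩ := three_cases g.2 (by rw [Subgroup.orderOf_coe, ho])
  rcases h with ⟨e, -⟩ | ⟨e, -⟩
  · exact Or.inr ⟨u, hu, e⟩
  · exact Or.inl ⟨⟨u, hu⟩, Subtype.ext e⟩

end CfsgLib.MonsterType.ThreeFree
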