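import Cfsg.Agent.Lib.MonsterType.ThreeFree.Checks
import Cfsg.Agent.Lib.MonsterType.ThreeFree.Perms
import Cfsg.Agent.Lib.MonsterType.Local.Basis

/-!
# The fixed classes of the fixed-point-free element of order three
-/

set_option autoImplicit false
set_option maxRecDepth 100000

namespace CfsgLib.MonsterType.ThreeFree

open Cfsg CfsgLib.Golay CfsgLib.Leech CfsgLib.Leech.CoTwo CfsgLib.M24Cert

/-- The automorphism of the lattice. -/
noncomputable def piAut : Co0 := (permLift sigB : Co0)

theorem orderOf_piAut : orderOf piAut = 3 := by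
  rw [piAut, Subgroup.orderOf_coe]
  refine (orderOf_injective permLift (fun a b e => ?_) sigB).trans orderOf_sigB
  rw [← permPart_permLift a, ← permPart_permLift b, e]

theorem piAut_pow : piAut ^ 3 = 1 := orderOf_piAut ▸ pow_orderOf_eq_one piAut

theorem sigB_symm : ((sigB : ↥M24) : Equiv.Perm GolayPt).symm = pL invE := by
  obtain ⟨h1, h2, h3⟩ := invE_valid
  have h : pL elE.L * pL invE = 1 := by rw [← pL_compL h1 h2, h3, pL_range]
  exact (inv_eq_of_mul_eq_one_right h : (pL elE.L)⁻¹ = pL invE)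

theorem coe_piAut_smul (v : leechLattice) (p : GolayPt) :
    ((piAut • v : leechLattice) : GolayPt → ℤ) p = (v : GolayPt → ℤ) (pL invE p) := by
  have h : piAut = monoAut (sigB : Equiv.Perm GolayPt) sigB.2 ∅ codeSet_empty := rfl
  rw [h, coe_monoAut_smul, ← sigB_symm]
  simp [signedPerm]

theorem piAut_list {v : leechLattice} {l : List ℤ} (h : (v : GolayPt → ℤ) = toVec l) :
    ((piAut • v : leechLattice) : GolayPt → ℤ) = toVec (piL l) := by
  funext p
  rw [coe_piAut_smul, h, piL, toVec_range, toVec, permOf_apply ptEquiv invE_valid.2.1]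

/-- A basis vector. -/
def bas (i : Fin 8) : leechLattice :=
  ⟨toVec (fixBasis.getD i.val []), mem_of_leechTest (by
    have h := List.all_eq_true.1 basis_ok i.val (List.mem_range.2 i.isLt)
    simp only [Bool.and_eq_true] at h
    exact h.1.2)⟩

theorem piAut_bas (i : Fin 8) : piAut • bas i = bas i := by
  have h := List.all_eq_true.1 basis_ok i.val (List.mem_range.2 i.isLt)
  simp only [Bool.and_eq_true, beq_iff_eq] at h
  refine Subtype.ext ?_
  rw [piAut_list (v := bas i) rfl, h.2]
  rfl

/-- A class as a sum of basis vectors. -/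
def vecN (x : ℕ) : leechLattice := ∑ i : Fin 8, if x.testBit i.val then bas i else 0

theorem vecN_zero : vecN 0 = 0 := by simp [vecN]

theorem piAut_vecN (x : ℕ) : piAut • vecN x = vecN x := by
  rw [vecN, smul_sum']
  refine Finset.sum_congr rfl fun i _ => ?_
  split
  · exact piAut_bas i
  · exact map_zero (actHom piAut)

theorem coe_vecN (x : ℕ) : (vecN x : GolayPt → ℤ) = toVec (vecL x) := by
  funext p
  rw [vecL, toVec_range, vecN, Fin.sum_univ_eight]
  simp only [AddSubgroup.coe_add, Pi.add_apply, List.range_succ_eq_map, List.range_zero, List.map_cons,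
    List.map_nil, List.sum_cons, List.sum_nil, apply_ite (Subtype.val : leechLattice → GolayPt → ℤ)]
  simp only [bas, ite_apply, ZeroMemClass.coe_zero, Pi.zero_apply, toVec]
  norm_num [add_assoc]

theorem vecN_xor (x y : ℕ) : vecN (x ^^^ y) - (vecN x + vecN y) ∈ twoMul leechLattice := by
  rw [vecN, vecN, vecN, ← Finset.sum_add_distrib, ← Finset.sum_sub_distrib]
  refine AddSubgroup.sum_mem _ fun i _ => ?_
  rw [Nat.testBit_xor]
  cases x.testBit i.val <;> cases y.testBit i.val <;>
    simp only [Bool.bne_false, Bool.bne_true, Bool.not_true, Bool.not_false, if_true, if_false,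
      Bool.false_eq_true, sub_zero, add_zero, zero_add, sub_self, zero_sub, zero_mem]
  exact neg_mem (mem_twoMul_iff_add.2 ⟨_, rfl⟩)

theorem congr_of_congrB {v w : leechLattice} {a b : List ℤ} (hv : (v : GolayPt → ℤ) = toVec a)
    (hw : (w : GolayPt → ℤ) = toVec b) (h : congrB a b = true) : v - w ∈ twoMul leechLattice := by
  simp only [congrB, Bool.and_eq_true, List.all_eq_true, List.mem_range, beq_iff_eq] at h
  refine mem_twoMul_iff_add.2 ⟨⟨toVec (halfDiff a b), mem_of_leechTest h.2⟩, Subtype.ext (funext fun p => ?_)⟩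
  rw [AddSubgroup.coe_add, AddSubgroup.coe_sub, Pi.add_apply, Pi.sub_apply, hv, hw]
  show _ = toVec (halfDiff a b) p + toVec (halfDiff a b) p
  rw [halfDiff, toVec_range, toVec, toVec]
  have := h.1 _ (ptEquiv p).isLt
  omega

theorem congr_symm {v w : leechLattice} (h : v - w ∈ twoMul leechLattice) : w - v ∈ twoMul leechLattice := by
  have := neg_mem h
  rwa [neg_sub] at this

theorem congr_trans {u v w : leechLattice} (h1 : u - v ∈ twoMul leechLattice)
    (h2 : v - w ∈ twoMul leechLattice) : u - w ∈ twoMul leechLattice := by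
  have := add_mem h1 h2
  rwa [sub_add_sub_cancel] at this

/-- The sum of a vector and its two translates. -/
noncomputable def trace3 : leechLattice →+ leechLattice :=
  AddMonoidHom.id _ + actHom piAut + (actHom piAut).comp (actHom piAut)

theorem trace3_apply (v : leechLattice) : trace3 v = v + piAut • v + piAut • piAut • v := rfl

theorem trace3_span (v : leechLattice) : ∃ x < 256, trace3 v - vecN x ∈ twoMul leechLattice := by
  suffices h : ∀ u ∈ leechLattice, ∃ hu : u ∈ leechLattice,
      ∃ x < 256, trace3 ⟨u, hu⟩ - vecN x ∈ twoMul leechLattice by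
    obtain ⟨_, hx⟩ := h _ v.2
    exact hx
  intro u hu
  refine lat_induction (P := fun u => ∃ hu : u ∈ leechLattice,
    ∃ x < 256, trace3 ⟨u, hu⟩ - vecN x ∈ twoMul leechLattice) ?_ ?_ ?_ ?_ hu
  · refine ⟨zero_mem _, 0, by norm_num, ?_⟩
    rw [show (⟨0, zero_mem _⟩ : leechLattice) = 0 from rfl, map_zero, vecN_zero, sub_zero]
    exact zero_mem _
  · rintro a b ⟨ha, x, hx, hax⟩ ⟨hb, y, hy, hby⟩
    refine ⟨add_mem ha hb, x ^^^ y, Nat.xor_lt_two_pow (n := 8) hx hy, ?_⟩
    rw [show (⟨a + b, add_mem ha hb⟩ : leechLattice) = ⟨a, ha⟩ + ⟨b, hb⟩ from rfl, map_add]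
    have h := sub_mem (add_mem hax hby) (vecN_xor x y)
    convert h using 1
    abel
  · rintro a ⟨ha, x, hx, hax⟩
    refine ⟨neg_mem ha, x, hx, ?_⟩
    rw [show (⟨-a, neg_mem ha⟩ : leechLattice) = -⟨a, ha⟩ from rfl, map_neg]
    have h := sub_mem (neg_mem hax)
      (mem_twoMul_iff_add.2 ⟨vecN x, rfl⟩ : vecN x + vecN x ∈ twoMul leechLattice)
    convert h using 1
    abel
  · intro l hl
    have hmem := mem_of_leechTest (List.all_eq_true.1 genList_ok l hl)
    obtain ⟨n, hn, rfl⟩ := List.getElem_of_mem hl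
    have h := List.all_eq_true.1 trace_ok n (List.mem_range.2 hn)
    simp only [Bool.and_eq_true, decide_eq_true_eq] at h
    rw [List.getD_eq_getElem _ _ hn] at h
    refine ⟨hmem, _, h.1, congr_of_congrB ?_ (coe_vecN _) h.2⟩
    have e1 := piAut_list (v := (⟨_, hmem⟩ : leechLattice)) rfl
    have e2 := piAut_list e1
    funext p
    rw [trace3_apply, AddSubgroup.coe_add, AddSubgroup.coe_add, Pi.add_apply, Pi.add_apply, e1, e2]
    show toVec _ p + toVec _ p + toVec _ p = _
    rw [traceL, toVec_range]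
    rfl

/-- A fixed vector is congruent to a sum of basis vectors. -/
theorem fixed_span {v : leechLattice} (hv : piAut • v = v) :
    ∃ x < 256, v - vecN x ∈ twoMul leechLattice := by
  obtain ⟨x, hx, h⟩ := trace3_span v
  refine ⟨x, hx, ?_⟩
  rw [trace3_apply, hv, hv] at h
  have := sub_mem h (mem_twoMul_iff_add.2 ⟨v, rfl⟩ : v + v ∈ twoMul leechLattice)
  convert this using 1
  abel

theorem vecN_mem_twoMul {x : ℕ} (hx : x < 256) (h : vecN x ∈ twoMul leechLattice) : x = 0 := by
  have hx' := List.all_eq_true.1 nondeg_ok x (List.mem_range.2 hx)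
  simp only [Bool.or_eq_true, beq_iff_eq, List.any_eq_true, List.mem_range, Bool.not_eq_true',
    beq_eq_false_iff_ne] at hx'
  refine hx'.resolve_right ?_
  rintro ⟨i, hi, hne⟩
  refine hne ?_
  obtain ⟨w, hw⟩ := mem_twoMul_iff_add.1 h
  have e1 : dotL (vecL x) (fixBasis.getD i []) = dotInt (vecN x : GolayPt → ℤ) (bas ⟨i, hi⟩) := by
    rw [coe_vecN]; exact (dotInt_toVec _ _).symm
  rw [e1, hw, AddSubgroup.coe_add, dotInt_add_left, ← eight_mul_inner]
  omega

theorem vecN_inj {x y : ℕ} (hx : x < 256) (hy : y < 256) (h : vecN x - vecN y ∈ twoMul leechLattice) :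
    x = y := by
  refine Nat.xor_eq_zero_iff.1 (vecN_mem_twoMul (Nat.xor_lt_two_pow (n := 8) hx hy) ?_)
  have h1 := add_mem (vecN_xor x y) h
  have h2 := add_mem h1 (mem_twoMul_iff_add.2 ⟨vecN y, rfl⟩ : vecN y + vecN y ∈ twoMul leechLattice)
  convert h2 using 1
  abel

/-- The class number of a set of basis vectors. -/
def bitsOf (S : Finset (Fin 8)) : ℕ := ∑ i ∈ S, 2 ^ i.val

theorem bitsOf_facts : ∀ S : Finset (Fin 8), bitsOf S < 256 ∧ (bitsOf S = 0 → S = ∅) ∧
    ∀ j : Fin 8, (bitsOf S).testBit j.val = decide (j ∈ S) := by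
  decide +kernel

theorem vecN_bitsOf (S : Finset (Fin 8)) : vecN (bitsOf S) = ∑ i ∈ S, bas i := by
  simp only [vecN, (bitsOf_facts S).2.2, decide_eq_true_eq]
  rw [Finset.sum_ite_mem, Finset.univ_inter]

/-- The basis of the fixed classes. -/
noncomputable def fixB : FixBasis piAut (2 * 4) where
  b := bas
  fixed := piAut_bas
  span v hv := by
    obtain ⟨x, -, h⟩ := fixed_span hv
    refine ⟨Finset.univ.filter fun i : Fin 8 => x.testBit i.val = true, ?_⟩
    rwa [Finset.sum_filter]
  indep S hS := (bitsOf_facts S).2.1 (vecN_mem_twoMul (bitsOf_facts S).1 (by rw [vecN_bitsOf]; exact hS))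

end CfsgLib.MonsterType.ThreeFree
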