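import Cfsg.Agent.Lib.MonsterType.ThreeFree.Data
import Mathlib

/-!
# Two permutations of nine points generate the alternating group
-/

set_option autoImplicit false
set_option maxRecDepth 100000

namespace CfsgLib.MonsterType.ThreeFree

open Equiv

/-- The action of the first automorphism on the nine subspaces. -/
def onePF : Perm (Fin 9) where
  toFun i := ⟨onePerm.getD i.val 0 % 9, Nat.mod_lt _ (by omega)⟩
  invFun i := ⟨onePerm.idxOf i.val % 9, Nat.mod_lt _ (by omega)⟩
  left_inv := by decide +kernel
  right_inv := by decide +kernel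

/-- The action of the second automorphism on the nine subspaces. -/
def twoPF : Perm (Fin 9) where
  toFun i := ⟨twoPerm.getD i.val 0 % 9, Nat.mod_lt _ (by omega)⟩
  invFun i := ⟨twoPerm.idxOf i.val % 9, Nat.mod_lt _ (by omega)⟩
  left_inv := by decide +kernel
  right_inv := by decide +kernel

theorem onePF_val : ∀ i : Fin 9, (onePF i).val = onePerm.getD i.val 0 := by decide +kernel

theorem twoPF_val : ∀ i : Fin 9, (twoPF i).val = twoPerm.getD i.val 0 := by decide +kernel

/-- The product along a word. -/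
def wordPF (w : List ℕ) : Perm (Fin 9) := (w.map fun i => if i = 0 then twoPF else onePF).prod

/-- A three-cycle through zero and one. -/
def cycJ (j : Fin 9) : Perm (Fin 9) := swap 0 1 * swap 1 j

theorem cycWords_ok : ∀ j : Fin 9, 2 ≤ j.val → wordPF (cycWords.getD (j.val - 2) []) = cycJ j := by
  decide +kernel

/-- A three-cycle through zero. -/
def cycZ (x y : Fin 9) : Perm (Fin 9) :=
  if x = 1 then cycJ y else if y = 1 then cycJ x * cycJ x else cycJ y * cycJ x * cycJ x

/-- A three-cycle. -/
def cycT (a b c : Fin 9) : Perm (Fin 9) :=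
  if a = 0 then cycZ b c else if b = 0 then cycZ c a else if c = 0 then cycZ a b else cycZ a b * cycZ b c

theorem cycT_ok : ∀ a b c : Fin 9, a = b ∨ a = c ∨ b = c ∨ cycT a b c = swap a b * swap b c := by
  decide +kernel

/-- A group containing the two permutations contains the alternating group. -/
theorem alternating_le_of_gens {H : Subgroup (Perm (Fin 9))} (h1 : onePF ∈ H) (h2 : twoPF ∈ H) :
    alternatingGroup (Fin 9) ≤ H := by
  have hJ : ∀ j : Fin 9, j ≠ 0 → j ≠ 1 → cycJ j ∈ H := fun j h0 h1' => by
    rw [← cycWords_ok j (by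
      rcases Fin.eq_zero_or_eq_succ j with h | ⟨k, rfl⟩
      · exact absurd h h0
      · have : k.val ≠ 0 := fun hk => h1' (Fin.ext (by simp [hk]))
        simp; omega)]
    refine H.list_prod_mem fun g hg => ?_
    obtain ⟨i, -, rfl⟩ := List.mem_map.1 hg
    split
    exacts [h2, h1]
  have hZ : ∀ x y : Fin 9, x ≠ 0 → y ≠ 0 → x ≠ y → cycZ x y ∈ H := fun x y hx hy hxy => by
    rw [cycZ]
    split
    · next h => exact hJ y hy (h ▸ hxy.symm)
    split
    · next h _ => exact H.mul_mem (hJ x hx h) (hJ x hx h)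
    · next h h' => exact H.mul_mem (H.mul_mem (hJ y hy h') (hJ x hx h)) (hJ x hx h)
  rw [← Perm.closure_three_cycles_eq_alternating, Subgroup.closure_le]
  intro σ hσ
  have h3 : σ.IsThreeCycle := hσ
  obtain ⟨a, ha⟩ : σ.support.Nonempty := Finset.card_pos.1 (by rw [h3.card_support]; omega)
  have hnd := h3.nodup_iff_mem_support.2 ha
  simp only [List.nodup_cons, List.mem_cons, List.not_mem_nil, or_false, not_or, List.nodup_nil, and_true,
    not_false_iff] at hnd
  rw [h3.eq_swap_mul_swap_iff_mem_support.2 ha]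
  obtain ⟨⟨hab, hac⟩, hbc⟩ := hnd
  rcases cycT_ok a (σ a) (σ (σ a)) with h | h | h | h
  · exact absurd h hab
  · exact absurd h hac
  · exact absurd h hbc
  rw [← h, cycT]
  split
  · next e => exact hZ _ _ (e ▸ Ne.symm hab) (e ▸ Ne.symm hac) hbc
  split
  · next h0 e => exact hZ _ _ (e ▸ Ne.symm hbc) h0 (Ne.symm hac)
  split
  · next h0 h1 _ => exact hZ _ _ h0 h1 hab
  · next h0 h1 h2 => exact H.mul_mem (hZ _ _ h0 h1 hab) (hZ _ _ h1 h2 hbc)

end CfsgLib.MonsterType.ThreeFree
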