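import Mathlib.Data.Nat.Notation
import Mathlib.Data.Int.Notation

/-!
Generated data: a basis of the lattice fixed by a fixed-point-free element of order three, nine
subspaces of its classes modulo two, and automorphisms centralising the element.
-/

set_option autoImplicit false

namespace CfsgLib.MonsterType.ThreeFree

/-- A basis of the fixed lattice. -/
def fixBasis : List (List ℤ) :=
  [[3, 3, 3, 3, 3, 3, 3, 3, 3, 3, 3, 3, 3, 3, 3, 3, 3, -1, 3, 3, 3, 3, -1, -1],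
   [0, 0, 0, 0, 0, 0, 0, 0, 0, 0, 0, 0, 0, 0, 0, 0, 0, 8, 0, 0, 0, 0, 8, 8],
   [4, 4, 4, 0, 0, 0, 0, 0, 0, 0, 0, 0, 0, 0, 0, 0, 0, -4, 0, 0, 0, 0, -4, -4],
   [0, 0, 0, 4, 4, 0, 0, 0, 0, 0, 0, 0, 0, 0, 0, 0, 0, -4, 0, 4, 0, 0, -4, -4],
   [0, 0, 0, 0, 0, 4, 0, 0, 0, 0, 0, 0, 4, 0, 0, 0, 4, -4, 0, 0, 0, 0, -4, -4],
   [2, 2, 2, 0, 0, 4, 0, 0, 2, 0, 2, 0, 4, 2, 2, 0, 4, 6, 2, 0, 2, 0, 6, 6],
   [2, 2, 2, 2, 2, 4, 0, 2, 0, 2, 0, 0, 4, 4, 4, 2, 4, 2, 0, 2, 4, 0, 2, 2],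
   [2, 2, 2, 0, 0, 2, 0, 2, 2, 2, 2, 0, 2, 4, 4, 2, 2, 4, 2, 0, 4, 0, 4, 4]]

/-- The classes of the traces of the generators of the lattice. -/
def traceCls : List ℕ :=
  [1, 2, 4, 4, 4, 8, 8, 16, 20, 12, 24, 12, 24, 20, 16, 28, 28, 12, 16, 0, 24, 8, 28, 20, 0, 32, 64, 128, 70, 4, 46, 254, 82, 108, 200, 54, 164]

/-- Nine subspaces, without the zero class. -/
def spreadTab : List (List ℕ) :=
  [[1, 34, 35, 82, 83, 112, 113, 132, 133, 166, 167, 214, 215, 244, 245],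
   [2, 4, 6, 8, 10, 12, 14, 16, 18, 20, 22, 24, 26, 28, 30],
   [5, 58, 63, 91, 94, 97, 100, 146, 151, 168, 173, 201, 204, 243, 246],
   [9, 36, 45, 86, 95, 114, 123, 144, 153, 180, 189, 198, 207, 226, 235],
   [13, 53, 56, 87, 90, 98, 111, 131, 142, 182, 187, 212, 217, 225, 236],
   [17, 32, 49, 69, 84, 101, 116, 139, 154, 171, 186, 206, 223, 238, 255],
   [21, 41, 60, 73, 92, 96, 117, 141, 152, 164, 177, 196, 209, 237, 248],
   [25, 39, 62, 65, 88, 102, 127, 134, 159, 161, 184, 199, 222, 224, 249],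
   [29, 38, 59, 77, 80, 107, 118, 140, 145, 170, 183, 193, 220, 231, 250]]

/-- The class of the base vector. -/
def baseCls : ℕ :=
  2

/-- The matrices, doubled, of the first automorphism. -/
def oneMats : List (List (List (ℕ × ℤ))) :=
  [[[(17, 2)], [(23, 2)], [(22, 2)], [(15, 2)], [(7, 2)], [(16, 2)], [(2, 2)], [(18, 2)], [(19, 2)], [(8, 2)], [(3, 2)], [(0, 2)], [(5, 2)], [(20, 2)], [(13, 2)], [(10, 2)], [(12, 2)], [(11, 2)], [(4, 2)], [(9, 2)], [(14, 2)], [(1, 2)], [(6, 2)], [(21, 2)]]]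

/-- The matrices, doubled, of the second automorphism. -/
def twoMats : List (List (List (ℕ × ℤ))) :=
  [[[(0, 2)], [(22, 2)], [(9, 2)], [(17, 2)], [(1, 2)], [(4, 2)], [(3, 2)], [(5, 2)], [(11, 2)], [(20, 2)], [(15, 2)], [(13, 2)], [(16, 2)], [(19, 2)], [(2, 2)], [(12, 2)], [(8, 2)], [(10, 2)], [(7, 2)], [(21, 2)], [(6, 2)], [(18, 2)], [(23, 2)], [(14, 2)]],
   [[(0, 2)], [(1, -2)], [(2, -2)], [(3, -2)], [(4, 2)], [(5, 2)], [(6, 2)], [(7, 2)], [(8, 2)], [(9, 2)], [(10, -2)], [(11, 2)], [(12, 2)], [(13, -2)], [(14, 2)], [(15, -2)], [(16, 2)], [(17, -2)], [(18, 2)], [(19, 2)], [(20, 2)], [(21, 2)], [(22, -2)], [(23, 2)]],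
   [[(0, 1), (3, -1), (13, -1), (20, -1)], [(1, -1), (2, 1), (18, 1), (21, 1)], [(1, 1), (2, -1), (18, 1), (21, 1)], [(0, -1), (3, 1), (13, -1), (20, -1)], [(4, -1), (7, 1), (8, 1), (16, 1)], [(5, -1), (6, 1), (11, 1), (14, 1)], [(5, 1), (6, -1), (11, 1), (14, 1)], [(4, 1), (7, -1), (8, 1), (16, 1)], [(4, 1), (7, 1), (8, -1), (16, 1)], [(9, -1), (17, 1), (22, 1), (23, 1)], [(10, -1), (12, 1), (15, 1), (19, 1)], [(5, 1), (6, 1), (11, -1), (14, 1)], [(10, 1), (12, -1), (15, 1), (19, 1)], [(0, -1), (3, -1), (13, 1), (20, -1)], [(5, 1), (6, 1), (11, 1), (14, -1)], [(10, 1), (12, 1), (15, -1), (19, 1)], [(4, 1), (7, 1), (8, 1), (16, -1)], [(9, 1), (17, -1), (22, 1), (23, 1)], [(1, 1), (2, 1), (18, -1), (21, 1)], [(10, 1), (12, 1), (15, 1), (19, -1)], [(0, -1), (3, -1), (13, -1), (20, 1)], [(1, 1), (2, 1), (18, 1), (21, -1)], [(9, 1), (17, 1), (22, -1), (23, 1)], [(9,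 1), (17, 1), (22, 1), (23, -1)]],
   [[(0, -2)], [(1, -2)], [(2, 2)], [(3, 2)], [(4, -2)], [(5, -2)], [(6, 2)], [(7, 2)], [(8, -2)], [(9, 2)], [(10, -2)], [(11, -2)], [(12, 2)], [(13, -2)], [(14, 2)], [(15, 2)], [(16, 2)], [(17, 2)], [(18, -2)], [(19, -2)], [(20, 2)], [(21, 2)], [(22, -2)], [(23, -2)]],
   [[(0, -1), (14, 1), (16, 1), (22, 1)], [(1, -1), (3, 1), (10, 1), (20, 1)], [(2, -1), (5, 1), (6, 1), (19, 1)], [(1, 1), (3, -1), (10, 1), (20, 1)], [(4, 1), (8, -1), (15, -1), (21, -1)], [(2, 1), (5, -1), (6, 1), (19, 1)], [(2, 1), (5, 1), (6, -1), (19, 1)], [(7, -1), (9, 1), (11, 1), (13, 1)], [(4, -1), (8, 1), (15, -1), (21, -1)], [(7, 1), (9, -1), (11, 1), (13, 1)], [(1, 1), (3, 1), (10, -1), (20, 1)], [(7, 1), (9, 1), (11, -1), (13, 1)], [(12, -1), (17, 1), (18, 1), (23, 1)], [(7, 1), (9, 1), (11, 1), (13, -1)], [(0, 1), (14, -1), (16, 1), (22, 1)], [(4,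 -1), (8, -1), (15, 1), (21, -1)], [(0, 1), (14, 1), (16, -1), (22, 1)], [(12, 1), (17, -1), (18, 1), (23, 1)], [(12, 1), (17, 1), (18, -1), (23, 1)], [(2, 1), (5, 1), (6, 1), (19, -1)], [(1, 1), (3, 1), (10, 1), (20, -1)], [(4, -1), (8, -1), (15, -1), (21, 1)], [(0, 1), (14, 1), (16, 1), (22, -1)], [(12, 1), (17, 1), (18, 1), (23, -1)]],
   [[(0, 2)], [(1, -2)], [(2, -2)], [(3, -2)], [(4, 2)], [(5, -2)], [(6, -2)], [(7, 2)], [(8, -2)], [(9, 2)], [(10, -2)], [(11, 2)], [(12, 2)], [(13, -2)], [(14, 2)], [(15, -2)], [(16, -2)], [(17, 2)], [(18, -2)], [(19, 2)], [(20, 2)], [(21, -2)], [(22, 2)], [(23, 2)]],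
   [[(0, -1), (7, 1), (10, 1), (22, 1)], [(1, -1), (11, 1), (17, 1), (23, 1)], [(2, -1), (6, 1), (13, 1), (20, 1)], [(3, 1), (8, -1), (9, -1), (15, -1)], [(4, -1), (5, 1), (16, 1), (18, 1)], [(4, 1), (5, -1), (16, 1), (18, 1)], [(2, 1), (6, -1), (13, 1), (20, 1)], [(0, 1), (7, -1), (10, 1), (22, 1)], [(3, -1), (8, 1), (9, -1), (15, -1)], [(3, -1), (8, -1), (9, 1), (15, -1)], [(0, 1), (7, 1), (10, -1), (22, 1)], [(1, 1), (11, -1), (17, 1), (23, 1)], [(12, -1), (14, 1), (19, 1), (21, 1)], [(2, 1), (6, 1), (13, -1), (20, 1)], [(12, 1), (14, -1), (19, 1), (21, 1)], [(3, -1), (8, -1), (9, -1), (15, 1)], [(4, 1), (5, 1), (16, -1), (18, 1)], [(1, 1), (11, 1), (17, -1), (23, 1)], [(4, 1), (5, 1), (16, 1), (18, -1)], [(12, 1), (14, 1), (19, -1), (21, 1)], [(2, 1), (6, 1), (13, 1), (20, -1)], [(12, 1), (14, 1), (19, 1), (21, -1)], [(0, 1), (7, 1), (10, 1), (22, -1)], [(1,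 1), (11, 1), (17, 1), (23, -1)]],
   [[(0, 2)], [(1, -2)], [(2, 2)], [(3, -2)], [(4, 2)], [(5, 2)], [(6, 2)], [(7, 2)], [(8, -2)], [(9, 2)], [(10, -2)], [(11, 2)], [(12, -2)], [(13, -2)], [(14, 2)], [(15, -2)], [(16, -2)], [(17, -2)], [(18, 2)], [(19, -2)], [(20, 2)], [(21, -2)], [(22, 2)], [(23, -2)]]]

/-- The action of the first automorphism on the classes of the basis. -/
def oneImg : List ℕ :=
  [5, 2, 16, 28, 20, 206, 190, 42]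

/-- The action of the second automorphism on the classes of the basis. -/
def twoImg : List ℕ :=
  [2, 183, 80, 140, 250, 177, 71, 76]

/-- The action of the first automorphism on the nine subspaces. -/
def onePerm : List ℕ :=
  [2, 1, 6, 7, 3, 5, 0, 4, 8]

/-- The action of the second automorphism on the nine subspaces. -/
def twoPerm : List ℕ :=
  [1, 8, 0, 4, 7, 6, 2, 5, 3]

/-- Three-cycles as words in the two permutations, the second being numbered zero. -/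
def cycWords : List (List ℕ) :=
  [[1, 0, 0, 0, 0, 0, 1, 0, 0, 0, 0, 1],
   [0, 0, 1, 1, 0, 0, 0, 0, 0, 1, 0, 0],
   [1, 1, 0, 0, 0, 1, 0, 0, 0, 1, 0, 0, 0, 0, 1],
   [0, 1, 0, 0, 0, 1, 0, 1, 0, 0, 0, 0, 1, 1, 0],
   [1, 0, 0, 0, 0, 0, 1, 1, 0, 0, 0, 0],
   [0, 0, 1, 1, 0, 0, 1, 1, 0, 0, 0, 0],
   [1, 0, 0, 1, 0, 0, 0, 1, 0, 1, 0, 0, 0, 0, 1]]

end CfsgLib.MonsterType.ThreeFree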