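import Cfsg.Agent.Lib.MonsterType.ThreeFree.Bound
import Cfsg.Agent.Lib.MonsterType.ThreeFree.Cycles

/-!
# The centraliser modulo the element and the centre is the alternating group of degree nine
-/

set_option autoImplicit false
set_option maxRecDepth 100000

open scoped Pointwise

namespace CfsgLib.MonsterType.ThreeFree

open Cfsg CfsgLib.Golay CfsgLib.Leech CfsgLib.Leech.CoTwo CfsgLib.M24Cert

theorem imgW_cons (M : List (List (ℕ × ℤ))) (W : List (List (List (ℕ × ℤ)))) (l : List ℤ) :
    imgW (M :: W) l = imgList M (imgW W l) := rfl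

theorem exists_wordAut : ∀ {W : List (List (List (ℕ × ℤ)))}, wordCheck W = true →
    ∃ g : Co0, ∀ (v : leechLattice) (l : List ℤ), (v : GolayPt → ℤ) = toVec l →
      ((g • v : leechLattice) : GolayPt → ℤ) = toVec (imgW W l)
  | [], _ => ⟨1, fun v l h => by rw [one_smul, h]; rfl⟩
  | M :: W, h => by
    simp only [wordCheck, List.all_cons, Bool.and_eq_true] at h
    obtain ⟨g, hg⟩ := exists_wordAut (W := W) (by rw [wordCheck]; exact h.2)
    refine ⟨matAut M (trMat M) h.1.1 h.1.2 * g, fun v l hv => ?_⟩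
    rw [mul_smul, coe_matAut_smul, hg v l hv, applyMat_toVec, imgW_cons]

/-- A word commuting with the element on generators commutes. -/
theorem comm_of_check {g : Co0} {W : List (List (List (ℕ × ℤ)))}
    (hg : ∀ (v : leechLattice) (l : List ℤ), (v : GolayPt → ℤ) = toVec l →
      ((g • v : leechLattice) : GolayPt → ℤ) = toVec (imgW W l))
    (hc : commWord W = true) : g ∈ Subgroup.centralizer ({piAut} : Set Co0) := by
  rw [mem_centralizer_piAut]
  refine co_ext fun v => ?_
  suffices h : ∀ u ∈ leechLattice, ∃ hu : u ∈ leechLattice,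
      (g * piAut) • (⟨u, hu⟩ : leechLattice) = (piAut * g) • ⟨u, hu⟩ by
    obtain ⟨_, hx⟩ := h _ v.2
    exact hx
  intro u hu
  refine lat_induction (P := fun u => ∃ hu : u ∈ leechLattice,
    (g * piAut) • (⟨u, hu⟩ : leechLattice) = (piAut * g) • ⟨u, hu⟩) ?_ ?_ ?_ ?_ hu
  · refine ⟨zero_mem _, ?_⟩
    rw [show (⟨0, zero_mem _⟩ : leechLattice) = 0 from rfl]
    exact (map_zero (actHom _)).trans (map_zero (actHom _)).symm
  · rintro a b ⟨ha, ea⟩ ⟨hb, eb⟩
    refine ⟨add_mem ha hb, ?_⟩
    rw [show (⟨a + b, add_mem ha hb⟩ : leechLattice) = ⟨a, ha⟩ + ⟨b, hb⟩ from rfl, smul_add', smul_add',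
      ea, eb]
  · rintro a ⟨ha, ea⟩
    refine ⟨neg_mem ha, ?_⟩
    rw [show (⟨-a, neg_mem ha⟩ : leechLattice) = -⟨a, ha⟩ from rfl, smul_neg', smul_neg', ea]
  · intro l hl
    have hmem := mem_of_leechTest (List.all_eq_true.1 genList_ok l hl)
    refine ⟨hmem, Subtype.ext ?_⟩
    have h := List.all_eq_true.1 hc l hl
    simp only [beq_iff_eq] at h
    rw [mul_smul, mul_smul, hg _ _ (piAut_list rfl), piAut_list (hg _ l rfl), h]

theorem bas_congr_of_check {g : Co0} {W : List (List (List (ℕ × ℤ)))} {img p : List ℕ}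
    (hg : ∀ (v : leechLattice) (l : List ℤ), (v : GolayPt → ℤ) = toVec l →
      ((g • v : leechLattice) : GolayPt → ℤ) = toVec (imgW W l))
    (h : actWord W img p = true) (i : Fin 8) :
    g • bas i - vecN (img.getD i.val 0) ∈ twoMul leechLattice := by
  simp only [actWord, Bool.and_eq_true, List.all_eq_true] at h
  exact congr_of_congrB (hg _ _ rfl) (coe_vecN _) (h.1 i.val (List.mem_range.2 i.isLt))

/-- An automorphism acts linearly on the classes. -/
theorem smul_vecN_congr {g : Co0} {img : List ℕ}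
    (h : ∀ i : Fin 8, g • bas i - vecN (img.getD i.val 0) ∈ twoMul leechLattice) (x : ℕ) :
    g • vecN x - vecN (linX img x) ∈ twoMul leechLattice := by
  have key : ∀ l : List (Fin 8),
      g • (l.map fun i => if x.testBit i.val then bas i else 0).sum -
        vecN ((l.map Fin.val).foldr (fun i acc => if x.testBit i then img.getD i 0 ^^^ acc else acc) 0) ∈
          twoMul leechLattice := by
    intro l
    induction l with
    | nil =>
      rw [List.map_nil, List.sum_nil, List.map_nil, List.foldr_nil, vecN_zero,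
        show g • (0 : leechLattice) = 0 from map_zero (actHom g), sub_zero]
      exact zero_mem _
    | cons i l ih =>
      simp only [List.map_cons, List.sum_cons, List.foldr_cons]
      by_cases hb : x.testBit i.val = true
      · rw [if_pos hb, if_pos hb, smul_add']
        have h1 := add_mem (h i) ih
        have h2 := sub_mem h1 (vecN_xor (img.getD i.val 0)
          ((l.map Fin.val).foldr (fun i acc => if x.testBit i then img.getD i 0 ^^^ acc else acc) 0))
        convert h2 using 1
        abel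
      · rw [if_neg hb, if_neg hb, zero_add]
        exact ih
  have h8 := key (List.finRange 8)
  rw [← Fin.sum_univ_def, List.map_coe_finRange_eq_range] at h8
  exact h8

/-- The automorphism permutes the nine subspaces as given. -/
def PresP (g : Co0) (p : Equiv.Perm (Fin 9)) : Prop :=
  g ∈ Subgroup.centralizer ({piAut} : Set Co0) ∧
    ∀ k : Fin 9, ∀ x ∈ sp k.val, ∃ y ∈ sp (p k).val, g • vecN x - vecN y ∈ twoMul leechLattice

theorem presP_one : PresP 1 1 :=
  ⟨one_mem _, fun k x hx => ⟨x, hx, by rw [one_smul, sub_self]; exact zero_mem _⟩⟩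

theorem presP_mul {g h : Co0} {p q : Equiv.Perm (Fin 9)} (hg : PresP g p) (hh : PresP h q) :
    PresP (g * h) (p * q) := by
  refine ⟨mul_mem hg.1 hh.1, fun k x hx => ?_⟩
  obtain ⟨y, hy, e⟩ := hh.2 k x hx
  obtain ⟨w, hw, e'⟩ := hg.2 (q k) y hy
  refine ⟨w, hw, congr_trans ?_ e'⟩
  rw [mul_smul, ← smul_sub']
  exact smul_mem_twoMul g e

theorem sp_disjoint : ∀ a b : Fin 9, a = b ∨ (sp a.val).all (fun x => !(sp b.val).contains x) = true := by
  decide +kernel

theorem sp_lt {k : Fin 9} {x : ℕ} (hx : x ∈ sp k.val) : x < 256 := by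
  have : ∀ k : Fin 9, ∀ x ∈ sp k.val, x < 256 := by decide +kernel
  exact this k x hx

theorem presP_unique {g : Co0} {p q : Equiv.Perm (Fin 9)} (hp : PresP g p) (hq : PresP g q) : p = q := by
  refine Equiv.ext fun k => ?_
  obtain ⟨x, hx⟩ := List.exists_mem_of_ne_nil _ (spread_ok.2.2.2.2 k.val k.isLt)
  obtain ⟨y, hy, e⟩ := hp.2 k x hx
  obtain ⟨y', hy', e'⟩ := hq.2 k x hx
  have hyy : y = y' := vecN_inj (sp_lt hy) (sp_lt hy') (congr_trans (congr_symm e) e')
  rcases sp_disjoint (p k) (q k) with h | h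
  · exact h
  · have h1 := List.all_eq_true.1 h y hy
    have h2 : (sp (q k).val).contains y = true := List.contains_iff_mem.2 (hyy ▸ hy')
    rw [h2] at h1
    exact absurd h1 (by decide)

theorem presP_pow {g : Co0} {p : Equiv.Perm (Fin 9)} (hg : PresP g p) : ∀ n : ℕ, PresP (g ^ n) (p ^ n)
  | 0 => presP_one
  | n + 1 => by rw [pow_succ, pow_succ]; exact presP_mul (presP_pow hg n) hg

/-- The automorphisms permuting the nine subspaces. -/
noncomputable def presGrp : Subgroup Co0 where
  carrier := {g | ∃ p, PresP g p}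
  one_mem' := ⟨1, presP_one⟩
  mul_mem' := fun ⟨p, hp⟩ ⟨q, hq⟩ => ⟨p * q, presP_mul hp hq⟩
  inv_mem' := fun {g} ⟨p, hp⟩ => by
    have := finite_co0
    have h := presP_pow hp (orderOf g - 1)
    refine ⟨p ^ (orderOf g - 1), ?_⟩
    have e : g⁻¹ = g ^ (orderOf g - 1) := by
      refine inv_eq_of_mul_eq_one_right ?_
      rw [← pow_succ', Nat.sub_add_cancel (orderOf_pos g), pow_orderOf_eq_one]
    rw [e]
    exact h

/-- The action on the nine subspaces. -/
noncomputable def theta : presGrp →* Equiv.Perm (Fin 9) :=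
  MonoidHom.mk' (fun g => g.2.choose) fun a b =>
    presP_unique (a * b).2.choose_spec (presP_mul a.2.choose_spec b.2.choose_spec)

theorem theta_eq {g : presGrp} {p : Equiv.Perm (Fin 9)} (h : PresP (g : Co0) p) : theta g = p :=
  presP_unique g.2.choose_spec h

theorem presP_of_check {W : List (List (List (ℕ × ℤ)))} {img pl : List ℕ} (p : Equiv.Perm (Fin 9))
    (hp : ∀ k : Fin 9, (p k).val = pl.getD k.val 0)
    (h : wordCheck W = true ∧ commWord W = true ∧ actWord W img pl = true) : ∃ g, PresP g p := by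
  obtain ⟨g, hg⟩ := exists_wordAut h.1
  refine ⟨g, comm_of_check hg h.2.1, fun k x hx => ?_⟩
  have h3 := h.2.2
  simp only [actWord, Bool.and_eq_true, List.all_eq_true, List.contains_iff_mem] at h3
  exact ⟨linX img x, by rw [hp k]; exact (h3.2 k.val (List.mem_range.2 k.isLt)).2 x hx,
    smul_vecN_congr (bas_congr_of_check hg h.2.2) x⟩

theorem presP_piAut : PresP piAut 1 :=
  ⟨mem_centralizer_piAut.2 rfl, fun k x hx => ⟨x, hx, by rw [piAut_vecN, sub_self]; exact zero_mem _⟩⟩

theorem presP_center {g : Co0} (hg : g ∈ Subgroup.center Co0) : PresP g 1 := by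
  refine ⟨Subgroup.center_le_centralizer _ hg, fun k x hx => ⟨x, hx, ?_⟩⟩
  rcases center_co0_cases hg with rfl | rfl
  · rw [one_smul, sub_self]; exact zero_mem _
  · rw [negAut_smul]
    have h := neg_mem (mem_twoMul_iff_add.2 ⟨vecN x, rfl⟩ : vecN x + vecN x ∈ twoMul leechLattice)
    convert h using 1
    abel

theorem orderOf_piAut_negAut : orderOf (piAut * negAut) = 6 := by
  have h2 : orderOf negAut = 2 := by
    refine orderOf_eq_prime_iff.2 ⟨co_ext fun v => ?_, negAut_ne_one⟩
    rw [pow_two, mul_smul, negAut_smul, negAut_smul, neg_neg, one_smul]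
  rw [Commute.orderOf_mul_eq_mul_orderOf_of_coprime (Subgroup.mem_center_iff.1 negAut_mem_center piAut)
    (by rw [orderOf_piAut, h2]; decide), orderOf_piAut, h2]

theorem card_alternating_nine : Nat.card (alternatingGroup (Fin 9)) = 181440 := by
  rw [nat_card_alternatingGroup, Nat.card_fin]
  rfl

theorem alternating_le_range : alternatingGroup (Fin 9) ≤ theta.range := by
  obtain ⟨g, hg⟩ := presP_of_check onePF onePF_val one_ok
  obtain ⟨h, hh⟩ := presP_of_check twoPF twoPF_val two_ok
  exact alternating_le_of_gens ⟨⟨g, _, hg⟩, theta_eq hg⟩ ⟨⟨h, _, hh⟩, theta_eq hh⟩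

theorem presGrp_le : presGrp ≤ Subgroup.centralizer ({piAut} : Set Co0) := fun _ ⟨_, hp⟩ => hp.1

theorem theta_structure : presGrp = Subgroup.centralizer ({piAut} : Set Co0) ∧
    theta.range = alternatingGroup (Fin 9) ∧
      ∀ g : presGrp, theta g = 1 → (g : Co0) ∈ Subgroup.zpowers piAut ⊔ Subgroup.center Co0 := by
  have := finite_co0
  have hmem : piAut * negAut ∈ presGrp := ⟨_, presP_mul presP_piAut (presP_center negAut_mem_center)⟩
  set z : presGrp := ⟨piAut * negAut, hmem⟩
  have hz : Subgroup.zpowers z ≤ theta.ker := by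
    rw [Subgroup.zpowers_le, MonoidHom.mem_ker,
      theta_eq (g := z) (presP_mul presP_piAut (presP_center negAut_mem_center)), one_mul]
  have hz6 : Nat.card (Subgroup.zpowers z) = 6 := by
    rw [Nat.card_zpowers, ← Subgroup.orderOf_coe, orderOf_piAut_negAut]
  have hk : 6 ≤ Nat.card theta.ker := hz6 ▸ Subgroup.card_le_of_le hz
  have hr : 181440 ≤ Nat.card theta.range :=
    card_alternating_nine ▸ Subgroup.card_le_of_le alternating_le_range
  have hcard : Nat.card theta.ker * Nat.card theta.range = Nat.card presGrp := by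
    rw [← theta.ker.card_mul_index, Subgroup.index_ker]
  have hle : Nat.card presGrp ≤ 1088640 :=
    (Subgroup.card_le_of_le presGrp_le).trans card_centralizer_piAut_le
  have hk6 : Nat.card theta.ker = 6 := by nlinarith
  have hr9 : Nat.card theta.range = 181440 := by nlinarith
  have hC : presGrp = Subgroup.centralizer ({piAut} : Set Co0) :=
    Subgroup.eq_of_le_of_card_ge presGrp_le (by
      rw [← hcard, hk6, hr9]; exact card_centralizer_piAut_le)
  refine ⟨hC, (Subgroup.eq_of_le_of_card_ge alternating_le_range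
    (by rw [hr9, card_alternating_nine])).symm, fun g hg => ?_⟩
  have hker : Subgroup.zpowers z = theta.ker := Subgroup.eq_of_le_of_card_ge hz (by rw [hk6, hz6])
  obtain ⟨i, hi⟩ := Subgroup.mem_zpowers_iff.1 (hker.symm ▸ (MonoidHom.mem_ker.2 hg) : g ∈ Subgroup.zpowers z)
  rw [← hi, Subgroup.coe_zpow]
  exact zpow_mem (mul_mem (Subgroup.mem_sup_left (Subgroup.mem_zpowers _))
    (Subgroup.mem_sup_right negAut_mem_center)) i

theorem mem_presGrp (h : Subgroup.centralizer ({piAut} : Set Co0)) : (h : Co0) ∈ presGrp := by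
  rw [theta_structure.1]; exact h.2

/-- The map onto the alternating group. -/
noncomputable def altHom : Subgroup.centralizer ({piAut} : Set Co0) →* alternatingGroup (Fin 9) :=
  (theta.comp (Subgroup.inclusion theta_structure.1.ge)).codRestrict _ fun h =>
    theta_structure.2.1.le ⟨_, rfl⟩

theorem altHom_surjective : Function.Surjective altHom := by
  rintro ⟨p, hp⟩
  rw [← theta_structure.2.1] at hp
  obtain ⟨g, hg⟩ := hp
  exact ⟨⟨g, presGrp_le g.2⟩, Subtype.ext hg⟩

theorem altHom_eq_one_iff (h : Subgroup.centralizer ({piAut} : Set Co0)) :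
    altHom h = 1 ↔ (h : Co0) ∈ Subgroup.zpowers piAut ⊔ Subgroup.center Co0 := by
  constructor
  · intro e
    exact theta_structure.2.2 ⟨h, mem_presGrp h⟩ (congrArg Subtype.val e)
  · intro hm
    let K : Subgroup presGrp := theta.ker
    have hK : Subgroup.zpowers piAut ⊔ Subgroup.center Co0 ≤ K.map presGrp.subtype := by
      refine sup_le (Subgroup.zpowers_le.2 ⟨⟨piAut, _, presP_piAut⟩, theta_eq presP_piAut, rfl⟩) fun g hg => ?_
      exact ⟨⟨g, _, presP_center hg⟩, theta_eq (presP_center hg), rfl⟩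
    obtain ⟨g, hg, e⟩ := hK hm
    refine Subtype.ext ?_
    show theta ⟨h, _⟩ = 1
    rw [← MonoidHom.mem_ker.1 hg]
    exact congrArg theta (Subtype.ext e.symm)

/-- An element acting trivially on the fixed classes is in the kernel. -/
theorem faith_piAut (h : Co0) (hh : h ∈ Subgroup.centralizer ({piAut} : Set Co0))
    (hb : ∀ i, h • fixB.b i - fixB.b i ∈ twoMul leechLattice) :
    h ∈ Subgroup.zpowers piAut ⊔ Subgroup.center Co0 := by
  have hb' : ∀ i : Fin 8, h • bas i - vecN ([1, 2, 4, 8, 16, 32, 64, 128].getD i.val 0) ∈ twoMul leechLattice := by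
    intro i
    have e : vecN ([1, 2, 4, 8, 16, 32, 64, 128].getD i.val 0) = bas i := by
      have hh' : ∀ (i j : Fin 8), ([1, 2, 4, 8, 16, 32, 64, 128].getD i.val 0).testBit j.val = decide (j = i) := by
        decide +kernel
      simp only [vecN, hh', decide_eq_true_eq, Finset.sum_ite_eq', Finset.mem_univ, if_true]
    rw [e]
    exact hb i
  have hid : ∀ k : Fin 9, ∀ x ∈ sp k.val, linX [1, 2, 4, 8, 16, 32, 64, 128] x = x := by decide +kernel
  have hp : PresP h 1 := ⟨hh, fun k x hx => ⟨x, hx, by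
    have := smul_vecN_congr hb' x
    rwa [hid k x hx] at this⟩⟩
  exact theta_structure.2.2 ⟨h, _, hp⟩ (theta_eq hp)

theorem pCore_alternating : pCore 2 (alternatingGroup (Fin 9)) = ⊥ := by
  have : Fact (Nat.Prime 2) := ⟨Nat.prime_two⟩
  have hs : IsSimpleGroup (alternatingGroup (Fin 9)) :=
    alternatingGroup.isSimpleGroup (by rw [Nat.card_fin]; omega)
  refine ((IsSimpleGroup.eq_bot_or_eq_top_of_normal _ inferInstance).resolve_right fun h => ?_)
  have hP := CfsgLib.Cores.isPGroup_pCore (G := alternatingGroup (Fin 9)) 2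
  rw [h] at hP
  obtain ⟨k, hk⟩ := IsPGroup.iff_card.1 hP
  rw [Subgroup.card_top, card_alternating_nine] at hk
  have h3 : 3 ∣ 2 ^ k := hk ▸ by norm_num
  exact absurd (Nat.Prime.dvd_of_dvd_pow Nat.prime_three h3) (by norm_num)

/-- The element is conjugate to each of its powers that generate. -/
theorem piAut_hpow {k : ℕ} (hk : ¬ 3 ∣ k) : ∃ h : Co0, h * piAut * h⁻¹ = piAut ^ k := by
  have hmod : piAut ^ k = piAut ^ (k % 3) := pow_eq_pow_mod k piAut_pow
  rcases (show k % 3 = 1 ∨ k % 3 = 2 by omega) with h | h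
  · exact ⟨1, by rw [hmod, h, pow_one, one_mul, inv_one, mul_one]⟩
  · obtain ⟨t, ht⟩ := exists_invert_sigB
    refine ⟨(permLift t : Co0), ?_⟩
    rw [hmod, h, piAut, ← SubmonoidClass.coe_pow, ← map_pow, ← ht, map_mul, map_mul, map_inv,
      Subgroup.coe_mul, Subgroup.coe_mul, Subgroup.coe_inv]

end CfsgLib.MonsterType.ThreeFree
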