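import Cfsg.Agent.Lib.MonsterType.ThreeFree.Move
import Cfsg.Agent.Lib.MonsterType.ThreeFree.Hom
import Cfsg.Agent.Lib.MonsterType.Local.Quot

/-!
# The centraliser of a subgroup of order three of the class without fixed points
-/

set_option autoImplicit false
set_option maxRecDepth 100000

open scoped Pointwise

namespace CfsgLib.MonsterType.ThreeFree

open Cfsg CfsgLib.Golay CfsgLib.Leech CfsgLib.M24Cert

variable {G : Type*} [Group G] [Finite G] {z : G}
  {Q : Subgroup (Subgroup.centralizer ({z} : Set G))} [Q.Normal]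
  {e : (Subgroup.centralizer ({z} : Set G)) ⧸ Q ≃* Spor.Co1}
  {ψ : leechLattice → Q ⧸ Subgroup.center Q} {x : Q} {B : Subgroup G} {g : Co0}

theorem orderOf_permPart (D : LocalData 3 e ψ x B g) : orderOf (permPart ⟨g, D.gmem⟩) = 3 := by
  haveI : Fact (Nat.Prime 3) := ⟨Nat.prime_three⟩
  refine orderOf_eq_prime ?_ fun h => ?_
  · rw [← map_pow, show (⟨g, D.gmem⟩ : crossStab) ^ 3 = 1 from Subtype.ext D.gpow, map_one]
  · have h2 : (g : Co0) * g = 1 := congrArg Subtype.val (sq_of_mem_ker (MonoidHom.mem_ker.2 h))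
    refine D.g_ne_one ?_
    have h3 := D.gpow
    rwa [pow_succ, pow_two, h2, one_mul] at h3

/-- In the class without fixed points the element can be taken to be the permutation. -/
theorem exists_to_piAut (D : LocalData 3 e ψ x B g) {u : ↥M24}
    (hu : permPart ⟨g, D.gmem⟩ = u * sigB * u⁻¹) : ∃ k ∈ crossStab, k * g * k⁻¹ = piAut := by
  set m : crossStab := permLift u⁻¹ with hm
  set g₁ : crossStab := m * ⟨g, D.gmem⟩ * m⁻¹ with hg₁
  set π : crossStab := permLift sigB with hπ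
  have h1 : permPart g₁ = sigB := by
    rw [hg₁, map_mul, map_mul, map_inv, hm, permPart_permLift, hu]
    group
  set c : crossStab := g₁ * π⁻¹ with hc
  have hck : c ∈ permPart.ker := by
    rw [MonoidHom.mem_ker, hc, map_mul, map_inv, h1, hπ, permPart_permLift, mul_inv_cancel]
  have hcπ : c * π = g₁ := by rw [hc, inv_mul_cancel_right]
  have hπ3 : π ^ 3 = 1 := by
    rw [hπ, ← map_pow, show sigB ^ 3 = 1 from orderOf_sigB ▸ pow_orderOf_eq_one sigB, map_one]
  have hg3 : (⟨g, D.gmem⟩ : crossStab) ^ 3 = 1 := Subtype.ext D.gpow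
  have h := conj_lift (sq_of_mem_ker hck) hπ3 (by
    rw [hcπ, hg₁, conj_pow, hg3, mul_one, mul_inv_cancel])
  rw [hcπ] at h
  refine ⟨((π * c * π⁻¹)⁻¹ * m : crossStab), SetLike.coe_mem _, ?_⟩
  have e1 : (π * c * π⁻¹)⁻¹ * m * ⟨g, D.gmem⟩ * ((π * c * π⁻¹)⁻¹ * m)⁻¹ = π := by
    calc (π * c * π⁻¹)⁻¹ * m * ⟨g, D.gmem⟩ * ((π * c * π⁻¹)⁻¹ * m)⁻¹
        = (π * c * π⁻¹)⁻¹ * g₁ * (π * c * π⁻¹) := by rw [hg₁]; group
      _ = π := by rw [← h]; group
  exact congrArg Subtype.val e1

/-- The centraliser of a subgroup of order three of this class, modulo the subgroup, has the shape. -/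
theorem thompson_type (hM : IsOfMonsterType z Q) {s : G} (hsQ : s ∈ qG Q) (hs : IsConj z s) (hs1 : s ≠ z)
    (Y : Subgroup G) (hY : Y ≤ Subgroup.centralizer ({z, s} : Set G)) (hY3 : Nat.card Y = 3)
    (hnc : ∀ P : Sylow 3 ↥(Subgroup.centralizer ({z, s} : Set G)),
      ¬ Y.subgroupOf (Subgroup.centralizer ({z, s} : Set G)) ≤
        (Subgroup.center ↥(P : Subgroup ↥(Subgroup.centralizer ({z, s} : Set G)))).map
          (P : Subgroup ↥(Subgroup.centralizer ({z, s} : Set G))).subtype)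
    [hn : (Y.subgroupOf (Subgroup.centralizer (Y : Set G))).Normal] :
    IsOfThompsonType (↥(Subgroup.centralizer (Y : Set G)) ⧸ Y.subgroupOf (Subgroup.centralizer (Y : Set G))) := by
  classical
  obtain ⟨e₀, ψ₀, x, g₀, rfl, D₀⟩ := exists_localData hM hsQ hs hs1 Nat.prime_three (by norm_num) hY hY3
  set s : G := ((x : Subgroup.centralizer ({z} : Set G)) : G) with hs'
  have hno : ¬ 27 ∣ Nat.card ↥(Subgroup.centralizer ({z, s} : Set G) ⊓ Subgroup.centralizer (Y : Set G)) :=
    fun hd => by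
      obtain ⟨P, hP⟩ := exists_sylow_of_dvd D₀.hS D₀.iso D₀.base hY hY3 hd
      exact hnc P hP
  obtain ⟨u, hu⟩ := (conj_sigB_of_orderOf (orderOf_permPart D₀)).resolve_right
    fun ⟨u, hu, e⟩ => hno (dvd_card_of_six D₀ hu e)
  obtain ⟨k, hk, hkg⟩ := exists_to_piAut D₀ hu
  have D := hkg ▸ D₀.conj hk
  -- the move
  obtain ⟨a, ha1, ha2, haL⟩ := exists_swap D.hS D.iso hsQ hs hs1
  set L := Subgroup.centralizer ({z, s} : Set G) with hL
  have hLeq : L.map (MulAut.conj a).toMonoidHom = L := by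
    refine Subgroup.eq_of_le_of_card_ge ?_ (by rw [Subgroup.card_map_of_injective (MulAut.conj a).injective])
    rintro _ ⟨y, hy, rfl⟩
    exact haL y hy
  set B' := Y.map (MulAut.conj a).toMonoidHom with hB'
  have hB'L : B' ≤ L := by
    rintro _ ⟨y, hy, rfl⟩
    exact haL y (hY hy)
  have hB'3 : Nat.card B' = 3 := by rw [hB', Subgroup.card_map_of_injective (MulAut.conj a).injective, hY3]
  obtain ⟨g', D'⟩ := exists_gen_same D hB'L hB'3
  have hno' : ¬ 27 ∣ Nat.card ↥(L ⊓ Subgroup.centralizer (B' : Set G)) := by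
    have he : (L ⊓ Subgroup.centralizer (Y : Set G)).map (MulAut.conj a).toMonoidHom =
        L ⊓ Subgroup.centralizer (B' : Set G) := by
      ext w
      constructor
      · rintro ⟨y, ⟨hy1, hy2⟩, rfl⟩
        refine ⟨haL y hy1, Subgroup.mem_centralizer_iff.2 ?_⟩
        rintro _ ⟨b, hb, rfl⟩
        rw [← map_mul, ← map_mul, Subgroup.mem_centralizer_iff.1 hy2 b hb]
      · rintro ⟨hw1, hw2⟩
        rw [SetLike.mem_coe, ← hLeq] at hw1
        obtain ⟨y, hy, rfl⟩ := hw1
        refine ⟨y, ⟨hy, Subgroup.mem_centralizer_iff.2 fun b hb => ?_⟩, rfl⟩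
        refine (MulAut.conj a).injective ?_
        rw [map_mul, map_mul]
        exact Subgroup.mem_centralizer_iff.1 hw2 _ ⟨b, hb, rfl⟩
    rw [← he, Subgroup.card_map_of_injective (MulAut.conj a).injective]
    exact hno
  obtain ⟨u', hu'⟩ := (conj_sigB_of_orderOf (orderOf_permPart D')).resolve_right
    fun ⟨u', hu', e⟩ => hno' (dvd_card_of_six D' hu' e)
  obtain ⟨k', -, hk'⟩ := exists_to_piAut D' hu'
  obtain ⟨w, hw, hwB⟩ := exists_conj_into D D' hk'
  obtain ⟨c, hc, hcs⟩ := D.exists_fix_move (fun k hk => piAut_hpow hk) ha1 hw fun b hb => by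
    have := hwB (a * b * a⁻¹) ⟨b, hb, rfl⟩
    convert this using 1
    group
  obtain ⟨hz, Qb, hQb, hset, hiso, -⟩ := quot_setting (w := 4) (by norm_num) D fixB altHom altHom_surjective
    altHom_eq_one_iff faith_piAut pCore_alternating hc hcs
  exact ⟨_, Qb, hQb, hset, hiso⟩

end CfsgLib.MonsterType.ThreeFree
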