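import Cfsg.Agent.Lib.MonsterType.Local.Move
import Cfsg.Agent.Lib.MonsterType.ThreeFree.Coords
import Cfsg.Agent.Lib.MonsterType.ThreeCentral.Sylow

/-!
# Subgroups of order three in the joint centraliser, by class
-/

set_option autoImplicit false
set_option maxRecDepth 100000

open scoped Pointwise

namespace CfsgLib.MonsterType.ThreeFree

open Cfsg CfsgLib.Golay CfsgLib.Leech CfsgLib.M24Cert

/-- Lifts of order three of one permutation are conjugate by a sign change. -/
theorem conj_lift {A : Type*} [Group A] {c π : A} (hc : c * c = 1) (hπ : π ^ 3 = 1)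
    (h : (c * π) ^ 3 = 1) : π * c * π⁻¹ * π * (π * c * π⁻¹)⁻¹ = c * π := by
  have hci : c⁻¹ = c := inv_eq_of_mul_eq_one_left hc
  have h3 : π * π = π⁻¹ := (inv_eq_of_mul_eq_one_left (by rw [← hπ, pow_succ, pow_two])).symm
  have h' : c * (π * c * π * c) * π = 1 := by rw [← h, pow_succ, pow_two]; group
  have h4 : π * c * π * c = c * π⁻¹ := by
    have h5 := congrArg (fun x : A => c * x * π⁻¹) h'
    simp only [mul_assoc, mul_inv_cancel, mul_one, one_mul] at h5
    rw [← mul_assoc c c, hc, one_mul] at h5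
    simpa [mul_assoc] using h5
  calc π * c * π⁻¹ * π * (π * c * π⁻¹)⁻¹ = π * c * π * c⁻¹ * π⁻¹ := by group
    _ = π * c * π * c * π⁻¹ := by rw [hci]
    _ = c * π := by rw [h4, mul_assoc, ← mul_inv_rev, h3, inv_inv]

variable {G : Type*} [Group G] [Finite G] {z : G}
  {Q : Subgroup (Subgroup.centralizer ({z} : Set G))} [Q.Normal]
  {e : (Subgroup.centralizer ({z} : Set G)) ⧸ Q ≃* Spor.Co1}
  {ψ : leechLattice → Q ⧸ Subgroup.center Q} {x : Q} {B B' : Subgroup G} {g g' : Co0}

/-- Coordinates for a second subgroup with the same identification. -/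
theorem exists_gen_same {p : ℕ} (D : LocalData p e ψ x B g)
    (hB : B' ≤ Subgroup.centralizer ({z, ((x : Subgroup.centralizer ({z} : Set G)) : G)} : Set G))
    (hcard : Nat.card B' = p) : ∃ g₂ : Co0, LocalData p e ψ x B' g₂ := by
  haveI : Fact p.Prime := ⟨D.prime⟩
  obtain ⟨y, hy⟩ := (isCyclic_of_prime_card hcard).exists_generator
  have hyC : (y : G) ∈ Subgroup.centralizer ({z} : Set G) :=
    Subgroup.centralizer_le (by simp) (hB y.2)
  set yC : Subgroup.centralizer ({z} : Set G) := ⟨(y : G), hyC⟩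
  obtain ⟨g₁, hg₁⟩ := proj_surjective (e := e) (QuotientGroup.mk yC)
  have hg₁m : g₁ ∈ crossStab := by
    rw [mem_crossStab_iff_congr, ← proj_mem_xSub_iff D.hS D.iso D.base (by rw [sqNorm_baseVec])
      (by rw [sqNorm_baseVec]; norm_num), hg₁]
    exact ⟨yC, Subgroup.mem_subgroupOf.2 ⟨hyC, Subgroup.centralizer_le (by simp) (hB y.2)⟩, rfl⟩
  have hyp : yC ^ p = 1 := by
    refine Subtype.ext ?_
    have := congrArg Subtype.val (show y ^ p = 1 by rw [← hcard]; exact pow_card_eq_one')
    simpa using this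
  have hcen : g₁ ^ p ∈ Subgroup.center Co0 := by
    rw [← proj_eq_one_iff (e := e), map_pow, hg₁, ← QuotientGroup.mk_pow, hyp, QuotientGroup.mk_one]
  have hnn : negAut * negAut = 1 := co_ext fun w => by
    rw [mul_smul, negAut_smul, negAut_smul, neg_neg, one_smul]
  have hodd := D.hpf
  obtain ⟨g₂, hgp, hgm, hgproj⟩ : ∃ g₂ : Co0, g₂ ^ p = 1 ∧ g₂ ∈ crossStab ∧
      proj e g₂ = QuotientGroup.mk yC := by
    rcases center_co0_cases hcen with h | h
    · exact ⟨g₁, h, hg₁m, hg₁⟩
    · refine ⟨g₁ * negAut, ?_, mul_mem hg₁m negAut_mem_crossStab, ?_⟩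
      · rw [(show Commute g₁ negAut from Subgroup.mem_center_iff.1 negAut_mem_center g₁).mul_pow, h]
        obtain ⟨m, rfl⟩ := hodd
        rw [pow_succ negAut (2 * m), pow_mul, pow_two negAut, hnn, one_pow, one_mul, hnn]
      · rw [map_mul, proj_eq_one_iff.2 negAut_mem_center, mul_one, hg₁]
  refine ⟨g₂, ⟨D.hS, D.iso, D.base, hB, D.prime, D.odd, hcard, hgm, ?_, ?_⟩⟩
  · refine orderOf_eq_prime hgp fun h1 => ?_
    rw [h1, map_one] at hgproj
    have hyQ : (y : G) ∈ qG Q := mem_qG_iff.2 ⟨hyC, (QuotientGroup.eq_one_iff _).1 hgproj.symm⟩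
    have hy1 := eq_one_of_mem_qG D.prime D.odd D.hS hcard y.2 hyQ
    have h2 : Nat.card B' ≤ 1 := by
      rw [Finite.card_le_one_iff_subsingleton]
      refine ⟨fun a b => ?_⟩
      obtain ⟨i, rfl⟩ := Subgroup.mem_zpowers_iff.1 (hy a)
      obtain ⟨j, rfl⟩ := Subgroup.mem_zpowers_iff.1 (hy b)
      rw [show y = 1 from Subtype.ext hy1, one_zpow, one_zpow]
    rw [hcard] at h2
    exact absurd D.prime.two_le (by omega)
  · ext a
    rw [mem_barSub, Subgroup.mem_zpowers_iff, hgproj]
    constructor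
    · rintro ⟨h, hh, rfl⟩
      obtain ⟨i, hi⟩ := Subgroup.mem_zpowers_iff.1 (hy ⟨(h : G), hh⟩)
      refine ⟨i, ?_⟩
      rw [← QuotientGroup.mk_zpow]
      congr 1
      refine Subtype.ext ?_
      have := congrArg Subtype.val hi
      simpa using this
    · rintro ⟨i, rfl⟩
      exact ⟨yC ^ i, by simpa [yC] using zpow_mem y.2 i, QuotientGroup.mk_zpow _ _ _⟩

/-- Conjugate elements in the coordinates give conjugate subgroups. -/
theorem exists_conj_into {p : ℕ} (D : LocalData p e ψ x B g) (D' : LocalData p e ψ x B' g') {k : Co0}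
    (hk : k * g' * k⁻¹ = g) :
    ∃ w ∈ Subgroup.centralizer ({z} : Set G), ∀ b ∈ B', w * b * w⁻¹ ∈ B := by
  haveI : Fact p.Prime := ⟨D.prime⟩
  obtain ⟨c, hc⟩ := QuotientGroup.mk_surjective (proj e k)
  let C := Subgroup.centralizer ({z} : Set G)
  set W : Subgroup C := (Subgroup.zpowers (proj e g)).comap (QuotientGroup.mk' Q) with hW
  set S : Subgroup C := B.subgroupOf C with hSdef
  set S' : Subgroup C := (B'.subgroupOf C).map (MulAut.conj c).toMonoidHom with hS'def
  have h1 : S ≤ W := fun y hy => by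
    rw [hW, Subgroup.mem_comap, ← D.aligned]
    exact mem_barSub.2 ⟨y, hy, rfl⟩
  have h2 : S' ≤ W := by
    rintro _ ⟨y, hy, rfl⟩
    obtain ⟨i, hi⟩ := D'.mem_bar (Subgroup.mem_subgroupOf.1 hy)
    rw [hW, Subgroup.mem_comap, ← hk, map_mul, map_mul, map_inv]
    refine Subgroup.mem_zpowers_iff.2 ⟨i, ?_⟩
    show _ = QuotientGroup.mk' Q (c * y * c⁻¹)
    rw [map_mul, map_mul, map_inv, QuotientGroup.mk'_apply, QuotientGroup.mk'_apply, hc, ← hi, zpow_natCast,
      conj_pow, map_pow]
  have hcS : Nat.card S = p := (Nat.card_congr (Subgroup.subgroupOfEquivOfLe D.le_z).toEquiv).trans D.card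
  have hcS' : Nat.card S' = p := by
    rw [hS'def, Subgroup.card_map_of_injective (MulAut.conj c).injective]
    exact (Nat.card_congr (Subgroup.subgroupOfEquivOfLe D'.le_z).toEquiv).trans D'.card
  have hcardW : Nat.card W = p * 2 ^ 25 := by
    rw [card_eq_map_mul_ker_inf (QuotientGroup.mk' Q) W, hW, Subgroup.map_comap_eq_self_of_surjective
      (QuotientGroup.mk'_surjective Q), inf_eq_left.2 (Subgroup.ker_le_comap _ _), QuotientGroup.ker_mk',
      card_Q D.hS, Nat.card_zpowers]
    congr 1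
    refine orderOf_eq_prime (by rw [← map_pow, D.gpow, map_one]) fun h1 => ?_
    exact D.g_ne_one (eq_of_proj_eq (e := e) D.hpf D.gpow (one_pow p) (h1.trans (map_one _).symm))
  have mkSyl : ∀ T : Subgroup C, T ≤ W → Nat.card T = p → ∃ P : Sylow p W, (P : Subgroup W) = T.subgroupOf W := by
    intro T hT hcT
    have hcT' : Nat.card (T.subgroupOf W) = p :=
      (Nat.card_congr (Subgroup.subgroupOfEquivOfLe hT).toEquiv).trans hcT
    refine ⟨IsPGroup.toSylow (IsPGroup.of_card (n := 1) (hcT'.trans (pow_one p).symm)) ?_, rfl⟩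
    have hidx : (T.subgroupOf W).index = 2 ^ 25 := by
      have := (T.subgroupOf W).card_mul_index
      rw [hcT', hcardW] at this
      exact Nat.eq_of_mul_eq_mul_left D.prime.pos this
    rw [hidx]
    exact fun hd => D.odd ((Nat.prime_dvd_prime_iff_eq D.prime Nat.prime_two).1 (D.prime.dvd_of_dvd_pow hd))
  obtain ⟨P, hP⟩ := mkSyl S h1 hcS
  obtain ⟨P', hP'⟩ := mkSyl S' h2 hcS'
  obtain ⟨w, hw⟩ := MulAction.exists_smul_eq W P' P
  refine ⟨((w : C) * c : C), ((w : C) * c).2, fun b hb => ?_⟩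
  set y : C := ⟨b, D'.le_z hb⟩
  have hmem : w * (⟨c * y * c⁻¹, h2 ⟨y, hb, rfl⟩⟩ : W) * w⁻¹ ∈ (P : Subgroup W) := by
    rw [← hw, Sylow.coe_subgroup_smul, Subgroup.pointwise_smul_def, hP']
    exact ⟨_, Subgroup.mem_subgroupOf.2 ⟨y, hb, rfl⟩, rfl⟩
  rw [hP] at hmem
  have h3 : (((w : C) * (c * y * c⁻¹) * (w : C)⁻¹ : C) : G) ∈ B := hmem
  convert h3 using 1
  simp [y, mul_assoc]

/-- An element with six fixed points gives a subgroup whose centraliser has order divisible by 27. -/
theorem dvd_card_of_six (D : LocalData 3 e ψ x B g) {u : Equiv.Perm GolayPt} (hu : u ∈ M24)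
    (hg : ((permPart ⟨g, D.gmem⟩ : ↥M24) : Equiv.Perm GolayPt) = u * pL elD.L * u⁻¹) :
    27 ∣ Nat.card ↥(Subgroup.centralizer ({z, ((x : Subgroup.centralizer ({z} : Set G)) : G)} : Set G) ⊓
      Subgroup.centralizer (B : Set G)) := by
  classical
  haveI : Fact (Nat.Prime 3) := ⟨Nat.prime_three⟩
  have hfin : Finite Co0 := Nat.finite_of_card_ne_zero (by rw [card_co0]; norm_num)
  set gm : crossStab := ⟨g, D.gmem⟩ with hgm
  obtain ⟨hsA, hsc⟩ := ThreeCentral.sigA_mem_sylGrp
  set S : Subgroup ↥M24 := ThreeCentral.sylGrp.map (MulAut.conj (⟨u, hu⟩ : ↥M24)).toMonoidHom with hS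
  have hgS : permPart gm ∈ S := ⟨_, hsA, Subtype.ext hg.symm⟩
  have hgc : ∀ t ∈ S, t * permPart gm = permPart gm * t := by
    rintro _ ⟨a, ha, rfl⟩
    refine Subtype.ext ?_
    show u * (a : Equiv.Perm GolayPt) * u⁻¹ * _ = _ * (u * (a : Equiv.Perm GolayPt) * u⁻¹)
    rw [hg]
    calc u * (a : Equiv.Perm GolayPt) * u⁻¹ * (u * pL elD.L * u⁻¹)
        = u * ((a : Equiv.Perm GolayPt) * pL elD.L) * u⁻¹ := by group
      _ = u * (pL elD.L * (a : Equiv.Perm GolayPt)) * u⁻¹ := by rw [hsc a ha]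
      _ = _ := by group
  have hcS : Nat.card S = 27 := by
    rw [hS, Subgroup.card_map_of_injective (MulAut.conj _).injective, ThreeCentral.card_sylGrp]
  set W : Subgroup crossStab := S.comap permPart with hW
  have hcW : Nat.card W = 27 * 4096 := by
    rw [card_eq_map_mul_ker_inf permPart W, hW, Subgroup.map_comap_eq_self_of_surjective
      (fun σ => ⟨_, permPart_permLift σ⟩), inf_eq_left.2 (Subgroup.ker_le_comap _ _), hcS, card_ker_permPart]
  have hgW : gm ∈ W := hgS
  have hg3 : (⟨gm, hgW⟩ : W) ^ 3 = 1 := Subtype.ext (Subtype.ext D.gpow)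
  obtain ⟨R, hR⟩ := (IsPGroup.of_card (p := 3) (n := 1) (G := ↥(Subgroup.zpowers (⟨gm, hgW⟩ : W)))
    (by
      rw [Nat.card_zpowers, pow_one]
      refine orderOf_eq_prime hg3 fun h => D.g_ne_one ?_
      exact congrArg (fun t : W => ((t : crossStab) : Co0)) h)).exists_le_sylow
  have hcR : Nat.card R = 27 := by
    rw [R.card_eq_multiplicity, hcW, show (27 * 4096 : ℕ) = 3 ^ 3 * 4096 by norm_num,
      Nat.factorization_mul (by norm_num) (by norm_num), Finsupp.add_apply,
      Nat.Prime.factorization_pow Nat.prime_three, Finsupp.single_eq_same,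
      Nat.factorization_eq_zero_of_not_dvd (by norm_num : ¬ 3 ∣ 4096)]
    norm_num
  have hR27 : ∀ r ∈ (R : Subgroup W), r ^ 27 = 1 := fun r hr => by
    have := congrArg Subtype.val (pow_card_eq_one' (x := (⟨r, hr⟩ : (R : Subgroup W))))
    rw [hcR] at this
    simpa using this
  have hRg : ∀ r ∈ (R : Subgroup W), ((r : crossStab) : Co0) * g = g * ((r : crossStab) : Co0) := by
    intro r hr
    set t : W := r * ⟨gm, hgW⟩ * r⁻¹ * (⟨gm, hgW⟩ : W)⁻¹
    have htR : t ∈ (R : Subgroup W) := mul_mem (mul_mem (mul_mem hr (hR (Subgroup.mem_zpowers _)))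
      (inv_mem hr)) (inv_mem (hR (Subgroup.mem_zpowers _)))
    have htk : (t : crossStab) ∈ permPart.ker := by
      rw [MonoidHom.mem_ker]
      simp only [t, Subgroup.coe_mul, Subgroup.coe_inv, map_mul, map_inv]
      rw [hgc _ r.2]
      group
    have ht2 : t * t = 1 := Subtype.ext (sq_of_mem_ker htk)
    have ht1 : t = 1 := by
      have h27 := hR27 t htR
      rwa [show (27 : ℕ) = 2 * 13 + 1 by norm_num, pow_succ, pow_mul, pow_two, ht2, one_pow, one_mul] at h27
    have := congrArg (fun a : W => ((a : crossStab) : Co0)) ht1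
    simp only [t, Subgroup.coe_mul, Subgroup.coe_inv, OneMemClass.coe_one] at this
    rwa [mul_inv_eq_one, mul_inv_eq_iff_eq_mul] at this
  let f : W →* (Subgroup.centralizer ({z} : Set G)) ⧸ Q := (proj e).comp (crossStab.subtype.comp W.subtype)
  set T := (R : Subgroup W).map f with hT
  have hcT : Nat.card T = 27 := by
    rw [hT, ← hcR]
    refine (Nat.card_congr (Equiv.ofBijective (fun r : (R : Subgroup W) => (⟨f r, r, r.2, rfl⟩ : T))
      ⟨fun a b h => ?_, fun ⟨_, r, hr, e'⟩ => ⟨⟨r, hr⟩, Subtype.ext e'⟩⟩)).symm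
    have h1 : f (a : W) = f b := congrArg Subtype.val h
    have h2 := eq_of_proj_eq (e := e) (p := 27) (by decide)
      (by simpa using congrArg (fun t : W => ((t : crossStab) : Co0)) (hR27 _ a.2))
      (by simpa using congrArg (fun t : W => ((t : crossStab) : Co0)) (hR27 _ b.2)) h1
    exact Subtype.ext (Subtype.ext (Subtype.ext h2))
  set s : G := ((x : Subgroup.centralizer ({z} : Set G)) : G) with hs
  set K := Subgroup.centralizer ({z, s} : Set G) ⊓ Subgroup.centralizer (B : Set G) with hK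
  have hKz : K ≤ Subgroup.centralizer ({z} : Set G) := inf_le_left.trans (Subgroup.centralizer_le (by simp))
  set Kc := K.subgroupOf (Subgroup.centralizer ({z} : Set G)) with hKc
  have hTle : T ≤ Kc.map (QuotientGroup.mk' Q) := by
    rintro _ ⟨r, hr, rfl⟩
    have hr' : r ^ 14 ∈ (R : Subgroup W) := pow_mem hr 14
    obtain ⟨c, hc, hcB⟩ := D.lift_cent (h := (((r ^ 14 : W) : crossStab) : Co0))
      (Subgroup.mem_centralizer_singleton_iff.2 (hRg _ hr'))
    have h1 := psi_smul D.iso (h := c) hc.symm D.base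
    have hbase : ψ ((((r ^ 14 : W) : crossStab) : Co0) • baseVec) = ψ baseVec :=
      (psi_eq_iff D.iso).2 (mem_crossStab_iff_congr.1 ((r ^ 14 : W) : crossStab).2)
    rw [hbase, D.base] at h1
    have h2 := (center_cases D.hS).1 (QuotientGroup.eq.1 h1)
    simp only [Subgroup.coe_mul, Subgroup.coe_inv] at h2
    have hcz := commute_z c
    have hsz : z * s = s * z := (commute_z (x : Subgroup.centralizer ({z} : Set G))).symm
    have hcs : (c : G) * c * s * ((c : G) * c)⁻¹ = s := by
      rcases h2 with h2 | h2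
      · have e1 : (c : G) * s * (c : G)⁻¹ = s := (inv_mul_eq_one.1 h2).symm
        calc (c : G) * c * s * ((c : G) * c)⁻¹ = (c : G) * ((c : G) * s * (c : G)⁻¹) * (c : G)⁻¹ := by group
          _ = s := by rw [e1, e1]
      · have e1 : (c : G) * s * (c : G)⁻¹ = s * z := inv_mul_eq_iff_eq_mul.1 h2
        calc (c : G) * c * s * ((c : G) * c)⁻¹ = (c : G) * ((c : G) * s * (c : G)⁻¹) * (c : G)⁻¹ := by group
          _ = (c : G) * (s * z) * (c : G)⁻¹ := by rw [e1]
          _ = (c : G) * s * (c : G)⁻¹ * ((c : G) * z * (c : G)⁻¹) := by group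
          _ = s := by rw [e1, hcz, mul_inv_cancel_right, mul_assoc, z_sq D.hS, mul_one]
    refine ⟨c * c, Subgroup.mem_subgroupOf.2 ⟨?_, mul_mem hcB hcB⟩, ?_⟩
    · refine Subgroup.mem_centralizer_iff.2 fun w hw => ?_
      rcases hw with rfl | hw
      · show w * ((c : G) * c) = (c : G) * c * w
        rw [← mul_assoc, ← hcz, mul_assoc, ← hcz, mul_assoc]
      · rw [Set.mem_singleton_iff] at hw
        subst hw
        exact (mul_inv_eq_iff_eq_mul.1 hcs).symm
    · rw [QuotientGroup.mk'_apply, QuotientGroup.mk_mul, hc, ← map_mul]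
      show proj e _ = proj e _
      congr 1
      have h28 : r ^ 14 * r ^ 14 = r := by rw [← pow_add, show 14 + 14 = 27 + 1 by norm_num, pow_succ, hR27 r hr, one_mul]
      exact congrArg (fun a : W => ((a : crossStab) : Co0)) h28
  have h27 : 27 ∣ Nat.card Kc := by
    rw [card_eq_map_mul_ker_inf (QuotientGroup.mk' Q) Kc]
    exact dvd_mul_of_dvd_left (hcT ▸ Subgroup.card_dvd_of_le hTle) _
  rwa [Nat.card_congr (Subgroup.subgroupOfEquivOfLe hKz).toEquiv] at h27

/-- A centraliser of order divisible by 27 makes the subgroup central in a Sylow subgroup. -/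
theorem exists_sylow_of_dvd (hS : IsExtraspecialCentralizerSetting z Q 12) (hψ : IsLeechModTwoIso Q e ψ)
    (hbase : ψ baseVec = QuotientGroup.mk x)
    (hB : B ≤ Subgroup.centralizer ({z, ((x : Subgroup.centralizer ({z} : Set G)) : G)} : Set G))
    (hcard : Nat.card B = 3)
    (h : 27 ∣ Nat.card ↥(Subgroup.centralizer ({z, ((x : Subgroup.centralizer ({z} : Set G)) : G)} : Set G) ⊓
      Subgroup.centralizer (B : Set G))) :
    ∃ P : Sylow 3 ↥(Subgroup.centralizer ({z, ((x : Subgroup.centralizer ({z} : Set G)) : G)} : Set G)),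
      B.subgroupOf (Subgroup.centralizer ({z, ((x : Subgroup.centralizer ({z} : Set G)) : G)} : Set G)) ≤
        (Subgroup.center ↥(P : Subgroup ↥(Subgroup.centralizer ({z, ((x : Subgroup.centralizer ({z} : Set G)) : G)} :
          Set G)))).map (P : Subgroup ↥(Subgroup.centralizer ({z, ((x : Subgroup.centralizer ({z} : Set G)) : G)} :
          Set G))).subtype := by
  classical
  haveI : Fact (Nat.Prime 3) := ⟨Nat.prime_three⟩
  obtain ⟨m, hm⟩ := card_jointCentralizer hS hψ hbase
  set L := Subgroup.centralizer ({z, ((x : Subgroup.centralizer ({z} : Set G)) : G)} : Set G) with hL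
  set K := L ⊓ Subgroup.centralizer (B : Set G) with hK
  obtain ⟨R, hR⟩ := Sylow.exists_subgroup_card_pow_prime (G := ↥(K.subgroupOf L)) 3 (n := 3)
    (by rw [Nat.card_congr (Subgroup.subgroupOfEquivOfLe inf_le_left).toEquiv]; exact h)
  have hfac : (Nat.card L).factorization 3 = 3 := by
    rw [hm, show (244823040 : ℕ) = 3 ^ 3 * 9067520 by norm_num, Nat.factorization_mul (by positivity) (by norm_num),
      Finsupp.add_apply, Nat.factorization_mul (by norm_num) (by norm_num), Finsupp.add_apply,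
      Nat.Prime.factorization_pow Nat.prime_three, Finsupp.single_eq_same,
      Nat.factorization_eq_zero_of_not_dvd (by norm_num : ¬ 3 ∣ 9067520),
      Nat.factorization_eq_zero_of_not_dvd (n := 2 ^ m) (fun hd =>
        absurd (Nat.Prime.dvd_of_dvd_pow Nat.prime_three hd) (by norm_num))]
    all_goals norm_num
  let P : Sylow 3 L := Sylow.ofCard (R.map (K.subgroupOf L).subtype) (by
    rw [Subgroup.card_map_of_injective (Subgroup.subtype_injective _), hR, hfac])
  have hcomm : ∀ p ∈ (P : Subgroup L), ∀ b ∈ B.subgroupOf L, b * p = p * b := by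
    rintro p ⟨q, -, rfl⟩ b hb
    exact Subtype.ext (Subgroup.mem_centralizer_iff.1 (Subgroup.mem_subgroupOf.1 q.2).2 _ hb)
  have hBP : B.subgroupOf L ≤ (P : Subgroup L) := by
    have hn : (P : Subgroup L) ≤ Subgroup.normalizer (B.subgroupOf L : Set L) := fun p hp => by
      rw [Subgroup.mem_normalizer_iff]
      intro a
      constructor
      · intro ha
        rwa [← hcomm p hp a ha, mul_inv_cancel_right]
      · intro ha
        have h1 := hcomm p hp _ ha
        rw [inv_mul_cancel_right] at h1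
        have h2 : p * a * p⁻¹ = a := mul_left_cancel h1.symm
        rwa [h2] at ha
    have hBp : IsPGroup 3 (B.subgroupOf L) := IsPGroup.of_card (n := 1) (by
      rw [pow_one, ← hcard]; exact Nat.card_congr (Subgroup.subgroupOfEquivOfLe hB).toEquiv)
    have := P.is_maximal' (P.isPGroup'.to_sup_of_normal_right' hBp hn) le_sup_left
    exact le_sup_right.trans this.le
  exact ⟨P, fun b hb => ⟨⟨b, hBP hb⟩, Subgroup.mem_center_iff.2 fun p => Subtype.ext (hcomm p p.2 b hb).symm, rfl⟩⟩

end CfsgLib.MonsterType.ThreeFree
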